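import Mathlib
import Cfsg.Agent.Lib.Helper16.Generation
import Cfsg.Agent.Lib.Helper10.Coprime

set_option autoImplicit false

namespace Cfsg.Agent.Lib.Helper20.AbGen

open scoped IsMulCommutative

universe u v

theorem card_ker_pow_le (A : Type*) [Group A] [IsMulCommutative A] [Finite A] (p m : ℕ) :
    Nat.card (powMonoidHom (p * m) : A →* A).ker ≤
      Nat.card (powMonoidHom m : A →* A).ker * Nat.card (powMonoidHom p : A →* A).ker := by
  obtain ⟨Kn, hKn⟩ : ∃ K : Subgroup A, K = (powMonoidHom (p * m) : A →* A).ker := ⟨_, rfl⟩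
  rw [← hKn]
  have hmemn : ∀ x : A, x ∈ Kn ↔ x ^ (p * m) = 1 := by
    intro x; rw [hKn, MonoidHom.mem_ker]; rfl
  let f : ↥Kn →* A := (powMonoidHom m : A →* A).comp Kn.subtype
  have hf : ∀ x : ↥Kn, f x = (x : A) ^ m := fun x => rfl
  have h1 : Nat.card f.ker * Nat.card f.range = Nat.card ↥Kn := by
    rw [← Subgroup.index_ker]
    exact Subgroup.card_mul_index _
  have h2 : Nat.card f.range ≤ Nat.card (powMonoidHom p : A →* A).ker := by
    apply Subgroup.card_le_of_le
    rintro _ ⟨x, rfl⟩
    rw [MonoidHom.mem_ker, hf]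
    show ((x : A) ^ m) ^ p = 1
    rw [← pow_mul, mul_comm]
    exact (hmemn x).1 x.2
  have h3 : Nat.card f.ker ≤ Nat.card (powMonoidHom m : A →* A).ker := by
    have hmem : ∀ x : ↥f.ker, ((x : ↥Kn) : A) ∈ (powMonoidHom m : A →* A).ker := by
      intro x
      rw [MonoidHom.mem_ker]
      have := MonoidHom.mem_ker.1 x.2
      rw [hf] at this
      exact this
    apply Nat.card_le_card_of_injective (fun x : ↥f.ker => (⟨((x : ↥Kn) : A), hmem x⟩ :
      ↥(powMonoidHom m : A →* A).ker))
    intro x y hxy
    have := congrArg Subtype.val hxy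
    exact Subtype.ext (Subtype.ext this)
  calc Nat.card ↥Kn = Nat.card f.ker * Nat.card f.range := h1.symm
    _ ≤ Nat.card (powMonoidHom m : A →* A).ker * Nat.card (powMonoidHom p : A →* A).ker :=
      Nat.mul_le_mul h3 h2

theorem exists_rank_two (A : Type*) [Group A] [IsMulCommutative A] [Finite A] (h : ¬ IsCyclic A) :
    ∃ p : ℕ, p.Prime ∧ ∃ a b : A, a ^ p = 1 ∧ orderOf b = p ∧ a ∉ Subgroup.zpowers b := by
  classical
  letI := Fintype.ofFinite A
  have hex : ∃ n : ℕ, 0 < n ∧ n < Nat.card (powMonoidHom n : A →* A).ker := by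
    by_contra hcon
    push Not at hcon
    apply h
    apply isCyclic_of_card_pow_eq_one_le
    intro n hn
    have h1 := hcon n hn
    have h2 : Nat.card (powMonoidHom n : A →* A).ker =
        (Finset.univ.filter (fun a : A => a ^ n = 1)).card := by
      rw [Nat.card_eq_fintype_card, ← Fintype.card_subtype]
      apply Fintype.card_congr
      exact Equiv.subtypeEquivRight (fun x => by rw [MonoidHom.mem_ker]; rfl)
    rw [← h2]
    exact h1
  obtain ⟨hn0, hn⟩ := Nat.find_spec hex
  obtain ⟨n, hndef⟩ : ∃ n, n = Nat.find hex := ⟨_, rfl⟩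
  rw [← hndef] at hn0 hn
  have hmin : ∀ m, 0 < m → m < n → Nat.card (powMonoidHom m : A →* A).ker ≤ m := by
    intro m hm0 hmn
    by_contra hlt
    push Not at hlt
    rw [hndef] at hmn
    exact Nat.find_min hex hmn ⟨hm0, hlt⟩
  have hn1 : n ≠ 1 := by
    rintro rfl
    have h1 : (powMonoidHom 1 : A →* A).ker = ⊥ := by
      rw [eq_bot_iff]
      intro x hx
      rw [MonoidHom.mem_ker] at hx
      rw [Subgroup.mem_bot]
      simpa using hx
    rw [h1, Subgroup.card_bot] at hn
    exact lt_irrefl _ hn
  obtain ⟨p, hp, hpn⟩ := Nat.exists_prime_and_dvd hn1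
  obtain ⟨m, rfl⟩ := hpn
  have hm0 : 0 < m := Nat.pos_of_ne_zero (by rintro rfl; simp at hn0)
  have hmlt : m < p * m := by
    have := hp.one_lt
    nlinarith
  have hKm := hmin m hm0 hmlt
  have hKp : p < Nat.card (powMonoidHom p : A →* A).ker := by
    by_contra hle
    push Not at hle
    have := card_ker_pow_le A p m
    have h2 : Nat.card (powMonoidHom (p * m) : A →* A).ker ≤ p * m :=
      this.trans (by rw [mul_comm p m]; exact Nat.mul_le_mul hKm hle)
    exact absurd hn (not_lt.2 h2)
  refine ⟨p, hp, ?_⟩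
  haveI : Fact p.Prime := ⟨hp⟩
  have hnt : (powMonoidHom p : A →* A).ker ≠ ⊥ := by
    intro hbot
    rw [hbot, Subgroup.card_bot] at hKp
    exact absurd hp.one_lt (not_lt.2 hKp.le)
  obtain ⟨b, hb1⟩ := (Subgroup.ne_bot_iff_exists_ne_one.1 hnt)
  have hbK' : (b : A) ^ p = 1 := by
    have := b.2
    rw [MonoidHom.mem_ker] at this
    exact this
  have hb1' : (b : A) ≠ 1 := fun h => hb1 (Subtype.ext h)
  have hbord : orderOf (b : A) = p := orderOf_eq_prime hbK' hb1'
  have hex2 : ∃ a ∈ (powMonoidHom p : A →* A).ker, a ∉ Subgroup.zpowers (b : A) := by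
    by_contra hcon
    push Not at hcon
    have hle : (powMonoidHom p : A →* A).ker ≤ Subgroup.zpowers (b : A) := hcon
    have := Subgroup.card_le_of_le hle
    rw [Nat.card_zpowers, hbord] at this
    exact absurd hKp (not_lt.2 this)
  obtain ⟨a, haK, ha⟩ := hex2
  refine ⟨a, b, ?_, hbord, ha⟩
  rw [MonoidHom.mem_ker] at haK
  exact haK

def fix {N A : Type*} [Group N] [Group A] (φ : A →* MulAut N) (B : Subgroup A) : Subgroup N where
  carrier := {x | ∀ b ∈ B, φ b x = x}
  one_mem' := fun b _ => map_one _
  mul_mem' := fun {x y} hx hy b hb => by rw [map_mul, hx b hb, hy b hb]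
  inv_mem' := fun {x} hx b hb => by rw [map_inv, hx b hb]

def fix1 {N A : Type*} [Group N] [Group A] (φ : A →* MulAut N) (c : A) : Subgroup N where
  carrier := {x | φ c x = x}
  one_mem' := map_one _
  mul_mem' := fun {x y} hx hy => by
    show φ c (x * y) = x * y
    rw [map_mul, hx, hy]
  inv_mem' := fun {x} hx => by
    show φ c x⁻¹ = x⁻¹
    rw [map_inv, hx]

def restr {N A : Type*} [Group N] [Group A] (φ : A →* MulAut N) (H : Subgroup N)
    (hinv : ∀ (a : A) (x : N), x ∈ H → φ a x ∈ H) : A →* MulAut ↥H where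
  toFun a :=
    { toFun := fun x => ⟨φ a (x : N), hinv a x x.2⟩
      invFun := fun x => ⟨φ a⁻¹ (x : N), hinv a⁻¹ x x.2⟩
      left_inv := fun x => Subtype.ext (by simp)
      right_inv := fun x => Subtype.ext (by simp)
      map_mul' := fun x y => Subtype.ext (map_mul (φ a) (x : N) (y : N)) }
  map_one' := by ext x; simp
  map_mul' := fun a b => by ext x; simp

theorem restr_apply {N A : Type*} [Group N] [Group A] (φ : A →* MulAut N) (H : Subgroup N)
    (hinv : ∀ (a : A) (x : N), x ∈ H → φ a x ∈ H) (a : A) (x : ↥H) :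
    ((restr φ H hinv a x : ↥H) : N) = φ a (x : N) := rfl

theorem gen_abs : ∀ (n : ℕ) (N : Type u) [Group N] [Finite N] (A : Type v) [Group A]
    [IsMulCommutative A] [Finite A] (φ : A →* MulAut N), Nat.card A + Nat.card N = n →
    (Nat.card A).Coprime (Nat.card N) →
    (⨆ B ∈ {B : Subgroup A | ∃ a : A, B ⊔ Subgroup.zpowers a = ⊤}, fix φ B) = ⊤ := by
  intro n
  induction n using Nat.strong_induction_on with
  | _ n ih =>
    intro N _ _ A _ _ _ φ hn hcop
    by_cases hcyc : IsCyclic A
    · obtain ⟨g, hg⟩ := hcyc.exists_generator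
      rw [eq_top_iff]
      have hmem : (⊥ : Subgroup A) ∈ {B : Subgroup A | ∃ a : A, B ⊔ Subgroup.zpowers a = ⊤} :=
        ⟨g, by rw [bot_sup_eq, eq_top_iff]; intro x _; exact hg x⟩
      refine le_trans ?_ (le_iSup₂ (f := fun B _ => fix φ B) ⊥ hmem)
      intro x _ b hb
      rw [Subgroup.mem_bot] at hb
      rw [hb, map_one]; rfl
    · obtain ⟨p, hp, a, b, hap, hb, hab⟩ := exists_rank_two A hcyc
      haveI : Fact p.Prime := ⟨hp⟩
      have hpA : p ∣ Nat.card A := hb ▸ orderOf_dvd_natCard b
      have hpN : (Nat.card N).Coprime p := (Nat.Coprime.coprime_dvd_left hpA hcop).symm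
      obtain ⟨L, hL⟩ : ∃ L, L = ⨆ B ∈ {B : Subgroup A | ∃ a : A, B ⊔ Subgroup.zpowers a = ⊤},
        fix φ B := ⟨_, rfl⟩
      rw [← hL]
      by_cases hc : ∃ i j : ℕ, a ^ i * b ^ j ≠ 1 ∧ φ (a ^ i * b ^ j) = 1
      · obtain ⟨i, j, hc1, hcφ⟩ := hc
        obtain ⟨c, hcdef⟩ : ∃ c, c = a ^ i * b ^ j := ⟨_, rfl⟩
        rw [← hcdef] at hc1 hcφ
        obtain ⟨C, hC⟩ : ∃ C, C = Subgroup.zpowers c := ⟨_, rfl⟩
        have hCker : C ≤ φ.ker := by
          rw [hC, Subgroup.zpowers_le]; exact hcφ
        have hCne : C ≠ ⊥ := by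
          rw [hC]; exact Subgroup.zpowers_ne_bot.2 hc1
        have hcard : Nat.card (A ⧸ C) < Nat.card A := by
          rw [Subgroup.card_eq_card_quotient_mul_card_subgroup C]
          exact lt_mul_of_one_lt_right Nat.card_pos ((Subgroup.one_lt_card_iff_ne_bot C).2 hCne)
        have hcop' : (Nat.card (A ⧸ C)).Coprime (Nat.card N) :=
          Nat.Coprime.coprime_dvd_left (Subgroup.card_quotient_dvd_card C) hcop
        have key := ih (Nat.card (A ⧸ C) + Nat.card N) (by omega) N (A ⧸ C)
          (QuotientGroup.lift C φ hCker) rfl hcop'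
        rw [eq_top_iff, ← key]
        apply iSup₂_le
        intro B' hB'
        obtain ⟨a', ha'⟩ := hB'
        obtain ⟨a₀, rfl⟩ := QuotientGroup.mk_surjective a'
        have hmem : B'.comap (QuotientGroup.mk' C) ∈
            {B : Subgroup A | ∃ a : A, B ⊔ Subgroup.zpowers a = ⊤} := by
          refine ⟨a₀, ?_⟩
          rw [eq_top_iff]
          intro x _
          have hx : (QuotientGroup.mk' C x) ∈ B' ⊔ Subgroup.zpowers (QuotientGroup.mk a₀) := by
            rw [ha']; trivial
          rw [Subgroup.mem_sup] at hx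
          obtain ⟨y, hy, z, hz, hyz⟩ := hx
          obtain ⟨k, rfl⟩ := Subgroup.mem_zpowers_iff.1 hz
          have h1 : x * (a₀ ^ k)⁻¹ ∈ B'.comap (QuotientGroup.mk' C) := by
            rw [Subgroup.mem_comap, map_mul, map_inv, map_zpow, ← hyz]
            simpa using hy
          have hx2 : x = (x * (a₀ ^ k)⁻¹) * a₀ ^ k := by group
          rw [hx2]
          exact Subgroup.mul_mem _ (Subgroup.mem_sup_left h1)
            (Subgroup.mem_sup_right (Subgroup.zpow_mem_zpowers a₀ k))
        rw [hL]
        refine le_trans ?_ (le_iSup₂ (f := fun B _ => fix φ B) _ hmem)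
        intro x hx d hd
        exact hx (QuotientGroup.mk' C d) hd
      · push Not at hc
        have hsub : ∀ c : A, φ c ≠ 1 → fix1 φ c ≤ L := by
          intro c hcne
          obtain ⟨Nc, hNc⟩ : ∃ Nc, Nc = fix1 φ c := ⟨_, rfl⟩
          rw [← hNc]
          have hinv : ∀ (a' : A) (x : N), x ∈ Nc → φ a' x ∈ Nc := by
            intro a' x hx
            rw [hNc] at hx ⊢
            show φ c (φ a' x) = φ a' x
            have h1 : φ c (φ a' x) = φ a' (φ c x) := by
              rw [← MulAut.mul_apply, ← MulAut.mul_apply, ← map_mul, ← map_mul, mul_comm' c a']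
            rw [h1]
            exact congrArg _ hx
          have hNcne : Nc ≠ ⊤ := by
            intro htop
            apply hcne
            ext x
            have hx : x ∈ Nc := by rw [htop]; trivial
            rw [hNc] at hx
            exact hx
          have hcardlt : Nat.card Nc < Nat.card N := by
            rcases lt_or_eq_of_le (Subgroup.card_le_card_group Nc) with h1 | h1
            · exact h1
            · exact absurd (Subgroup.card_eq_iff_eq_top Nc |>.1 h1) hNcne
          have hcop' : (Nat.card A).Coprime (Nat.card Nc) :=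
            Nat.Coprime.coprime_dvd_right (Subgroup.card_subgroup_dvd_card Nc) hcop
          have key := ih (Nat.card A + Nat.card Nc) (by omega) ↥Nc A (restr φ Nc hinv) rfl hcop'
          intro x hx
          have hx' : (⟨x, hx⟩ : ↥Nc) ∈ ⨆ B ∈ {B : Subgroup A | ∃ a : A,
              B ⊔ Subgroup.zpowers a = ⊤}, fix (restr φ Nc hinv) B := by
            rw [key]; trivial
          have hmap : (⨆ B ∈ {B : Subgroup A | ∃ a : A, B ⊔ Subgroup.zpowers a = ⊤},
              fix (restr φ Nc hinv) B).map Nc.subtype ≤ L := by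
            rw [Subgroup.map_iSup]
            apply iSup_le; intro B
            rw [Subgroup.map_iSup]
            apply iSup_le; intro hB
            rw [hL]
            refine le_trans ?_ (le_iSup₂ (f := fun B _ => fix φ B) B hB)
            rintro _ ⟨y, hy, rfl⟩
            intro d hd
            have := hy d hd
            exact congrArg Subtype.val this
          exact hmap (Subgroup.mem_map_of_mem Nc.subtype hx')
        haveI : Finite (N ⋊[φ] A) := Finite.of_equiv _ SemidirectProduct.equivProd.symm
        obtain ⟨K, hKdef⟩ : ∃ K : Subgroup (N ⋊[φ] A),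
          K = (SemidirectProduct.inl : N →* N ⋊[φ] A).range := ⟨_, rfl⟩
        have hKmem : ∀ x : N, (SemidirectProduct.inl x : N ⋊[φ] A) ∈ K := by
          intro x; rw [hKdef]; exact ⟨x, rfl⟩
        have hKcard : Nat.card K = Nat.card N := by
          rw [hKdef]
          exact (Nat.card_congr (Equiv.ofInjective _ SemidirectProduct.inl_injective)).symm
        have hK : (Nat.card K).Coprime p := by rw [hKcard]; exact hpN
        have hnorm : ∀ g : A, (SemidirectProduct.inr g : N ⋊[φ] A) ∈
            Subgroup.normalizer (K : Set (N ⋊[φ] A)) := by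
          intro g
          apply Cfsg.Agent.Lib.Helper10.Coprime.mem_normalizer_of_conj_mem
          intro s hs
          rw [hKdef] at hs ⊢
          obtain ⟨n', rfl⟩ := hs
          refine ⟨φ g n', ?_⟩
          rw [SemidirectProduct.inl_aut, map_inv]
        have hab' : (SemidirectProduct.inr a : N ⋊[φ] A) * SemidirectProduct.inr b =
            SemidirectProduct.inr b * SemidirectProduct.inr a := by
          rw [← map_mul, ← map_mul, mul_comm' a b]
        have hap' : (SemidirectProduct.inr a : N ⋊[φ] A) ^ p = 1 := by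
          rw [← map_pow, hap, map_one]
        have hb' : orderOf (SemidirectProduct.inr b : N ⋊[φ] A) = p := by
          rw [orderOf_injective _ SemidirectProduct.inr_injective, hb]
        have ha' : (SemidirectProduct.inr a : N ⋊[φ] A) ∉
            Subgroup.zpowers (SemidirectProduct.inr b : N ⋊[φ] A) := by
          intro hmem
          obtain ⟨k, hk⟩ := Subgroup.mem_zpowers_iff.1 hmem
          rw [← map_zpow] at hk
          exact hab (Subgroup.mem_zpowers_iff.2 ⟨k, SemidirectProduct.inr_injective hk⟩)
        have hfin := Cfsg.Agent.Lib.Helper16.Generation.gen_by_centralizers K hK _ _ (hnorm a)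
          (hnorm b) hab' hap' hb' ha' (L.map SemidirectProduct.inl) (by
            intro c' hc'1 hc'E
            obtain ⟨i, j, rfl⟩ := hc'E
            have hc'eq : (SemidirectProduct.inr a : N ⋊[φ] A) ^ i * (SemidirectProduct.inr b) ^ j =
                SemidirectProduct.inr (a ^ i * b ^ j) := by rw [map_mul, map_pow, map_pow]
            rw [hc'eq] at hc'1 ⊢
            have hcne : a ^ i * b ^ j ≠ 1 := by
              intro h; apply hc'1; rw [h, map_one]
            have hφne := hc i j hcne
            intro x hx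
            obtain ⟨hxK, hxc⟩ := Subgroup.mem_inf.1 hx
            rw [hKdef] at hxK
            obtain ⟨n', rfl⟩ := hxK
            refine Subgroup.mem_map_of_mem _ (hsub _ hφne ?_)
            show φ (a ^ i * b ^ j) n' = n'
            apply (SemidirectProduct.inl_injective (φ := φ))
            rw [SemidirectProduct.inl_aut]
            have h1 := Subgroup.mem_centralizer_singleton_iff.1 hxc
            rw [← h1, map_inv, mul_inv_cancel_right])
        rw [eq_top_iff]
        intro x _
        obtain ⟨y, hy, hxy⟩ := hfin (hKmem x)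
        rw [← SemidirectProduct.inl_injective hxy]; exact hy

end Cfsg.Agent.Lib.Helper20.AbGen
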