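import Mathlib

set_option autoImplicit false
set_option linter.style.haveILetI false

namespace Cfsg.Agent.Lib.Helper20.ClassLtP

open Subgroup
open scoped commutatorElement

def InC (p c : ℕ) (K : Type*) [Group K] : Prop :=
  (⊤ : Subgroup K).lowerCentralSeries c = ⊥ ∧ ∀ d ∈ commutator K, d ^ p = 1

theorem central_mk {K : Type*} [Group K] (n : ℕ) (x : K)
    (hx : x ∈ (⊤ : Subgroup K).lowerCentralSeries n) (g : K) :
    Commute (QuotientGroup.mk' ((⊤ : Subgroup K).lowerCentralSeries (n + 1)) x)
      (QuotientGroup.mk' ((⊤ : Subgroup K).lowerCentralSeries (n + 1)) g) := by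
  have h1 : ⁅x, g⁆ ∈ (⊤ : Subgroup K).lowerCentralSeries (n + 1) :=
    Subgroup.commutator_mem_commutator hx (Subgroup.mem_top g)
  have h2 : x * g = ⁅x, g⁆ * (g * x) := by
    rw [commutatorElement_def]; group
  show _ * _ = _ * _
  rw [← map_mul, ← map_mul, h2, map_mul]
  have h3 : QuotientGroup.mk' ((⊤ : Subgroup K).lowerCentralSeries (n + 1)) ⁅x, g⁆ = 1 := by
    rw [QuotientGroup.mk'_apply, QuotientGroup.eq_one_iff]; exact h1
  rw [h3, one_mul]

theorem comm_mul_right {K : Type*} [Group K] (z g g' : K) :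
    ⁅z, g * g'⁆ = ⁅z, g⁆ * (g * ⁅z, g'⁆ * g⁻¹) := by
  simp only [commutatorElement_def]; group

theorem comm_mul_left {K : Type*} [Group K] (z z' s : K) :
    ⁅z * z', s⁆ = (z * ⁅z', s⁆ * z⁻¹) * ⁅z, s⁆ := by
  simp only [commutatorElement_def]; group

section homog

variable {K : Type*} [Group K]

set_option quotPrecheck false in
local notation "L" => (⊤ : Subgroup K).lowerCentralSeries

theorem pi_conj (n : ℕ) (t : K) (ht : t ∈ L (n + 1)) (g : K) :
    QuotientGroup.mk' (L (n + 2)) (g * t * g⁻¹) = QuotientGroup.mk' (L (n + 2)) t := by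
  have h := central_mk (n + 1) t ht g
  rw [map_mul, map_mul, map_inv]
  rw [← h.eq, mul_inv_cancel_right]

theorem pi_comm_right (n : ℕ) (z : K) (hz : z ∈ L n) (g g' : K) :
    QuotientGroup.mk' (L (n + 2)) ⁅z, g * g'⁆
      = QuotientGroup.mk' (L (n + 2)) ⁅z, g⁆ * QuotientGroup.mk' (L (n + 2)) ⁅z, g'⁆ := by
  have h1 : ⁅z, g'⁆ ∈ L (n + 1) := Subgroup.commutator_mem_commutator hz (Subgroup.mem_top g')
  rw [comm_mul_right, map_mul, pi_conj n _ h1]

theorem pi_comm_left (n : ℕ) (z z' : K) (hz' : z' ∈ L n) (s : K) :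
    QuotientGroup.mk' (L (n + 2)) ⁅z * z', s⁆
      = QuotientGroup.mk' (L (n + 2)) ⁅z', s⁆ * QuotientGroup.mk' (L (n + 2)) ⁅z, s⁆ := by
  have h1 : ⁅z', s⁆ ∈ L (n + 1) := Subgroup.commutator_mem_commutator hz' (Subgroup.mem_top s)
  rw [comm_mul_left, map_mul, pi_conj n _ h1]

theorem pi_comm_central (n : ℕ) (z : K) (hz : z ∈ L n) (g : K) (y : K ⧸ L (n + 2)) :
    Commute (QuotientGroup.mk' (L (n + 2)) ⁅z, g⁆) y := by
  obtain ⟨y0, rfl⟩ := QuotientGroup.mk'_surjective (L (n + 2)) y
  exact central_mk (n + 1) _ (Subgroup.commutator_mem_commutator hz (Subgroup.mem_top g)) y0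

theorem pi_comm_pow_right (n : ℕ) (z : K) (hz : z ∈ L n) (g : K) (k : ℕ) :
    QuotientGroup.mk' (L (n + 2)) ⁅z, g ^ k⁆ = (QuotientGroup.mk' (L (n + 2)) ⁅z, g⁆) ^ k := by
  induction k with
  | zero => rw [pow_zero, pow_zero, commutatorElement_one_right, map_one]
  | succ k ih => rw [pow_succ, pi_comm_right n z hz, ih, pow_succ]

theorem pi_comm_pow_left (n : ℕ) (z : K) (hz : z ∈ L n) (s : K) (k : ℕ) :
    QuotientGroup.mk' (L (n + 2)) ⁅z ^ k, s⁆ = (QuotientGroup.mk' (L (n + 2)) ⁅z, s⁆) ^ k := by
  induction k with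
  | zero => rw [pow_zero, pow_zero, commutatorElement_one_left, map_one]
  | succ k ih =>
    rw [pow_succ, pi_comm_left n _ _ hz, ih, pow_succ]
    exact ((pi_comm_central n z hz s _).pow_right k).eq

theorem pi_comm_inv_right (n : ℕ) (z : K) (hz : z ∈ L n) (g : K) :
    QuotientGroup.mk' (L (n + 2)) ⁅z, g⁻¹⁆ = (QuotientGroup.mk' (L (n + 2)) ⁅z, g⁆)⁻¹ := by
  have h := pi_comm_right n z hz g g⁻¹
  rw [mul_inv_cancel] at h
  have h0 : ⁅z, (1 : K)⁆ = 1 := by simp
  rw [h0, map_one] at h
  exact eq_inv_of_mul_eq_one_right h.symm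

theorem map_lcs_le (ε : K →* K) (n : ℕ) (z : K) (hz : z ∈ L n) : ε z ∈ L n := by
  have h1 : (L n).map ε ≤ L n := by
    rw [Subgroup.map_lowerCentralSeries]
    exact Subgroup.lowerCentralSeries_mono n le_top
  exact h1 (Subgroup.mem_map_of_mem ε hz)

theorem homog (a b : K) (hgen : Subgroup.closure ({a, b} : Set K) = ⊤) (ε : K →* K) (m : ℕ)
    (ha : ε a = a ^ m) (hb : ε b = b ^ m) :
    ∀ n : ℕ, ∀ z ∈ L n, ε z * (z ^ (m ^ (n + 1)))⁻¹ ∈ L (n + 1) := by
  intro n
  induction n with
  | zero =>
    intro z _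
    have hcomm : ∀ u v : K, Commute (QuotientGroup.mk' (L 1) u) (QuotientGroup.mk' (L 1) v) :=
      fun u v => central_mk 0 u (Subgroup.mem_top u) v
    have key : ∀ z ∈ Subgroup.closure ({a, b} : Set K),
        QuotientGroup.mk' (L 1) (ε z) = (QuotientGroup.mk' (L 1) z) ^ m := by
      intro z hz
      induction hz using Subgroup.closure_induction with
      | mem x hx =>
        rcases hx with rfl | hx
        · rw [ha, map_pow]
        · rw [Set.mem_singleton_iff] at hx; subst hx; rw [hb, map_pow]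
      | one => rw [map_one, map_one, one_pow]
      | mul x y _ _ ihx ihy =>
        rw [map_mul, map_mul, ihx, ihy, map_mul, (hcomm x y).mul_pow]
      | inv x _ ihx =>
        rw [map_inv, map_inv, ihx, map_inv, inv_pow]
    have hz : z ∈ Subgroup.closure ({a, b} : Set K) := by rw [hgen]; exact Subgroup.mem_top z
    have h1 := key z hz
    have h2 : QuotientGroup.mk' (L 1) (ε z * (z ^ (m ^ (0 + 1)))⁻¹) = 1 := by
      rw [map_mul, map_inv, map_pow, h1, zero_add, pow_one]
      exact mul_inv_cancel _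
    exact (QuotientGroup.eq_one_iff _).1 h2
  | succ n ih =>
    have gen_step : ∀ z ∈ L n, ∀ s : K, ε s = s ^ m →
        QuotientGroup.mk' (L (n + 2)) (ε ⁅z, s⁆)
          = (QuotientGroup.mk' (L (n + 2)) ⁅z, s⁆) ^ (m ^ (n + 2)) := by
      intro z hz s hs
      have hu := ih z hz
      have e1 : ε z = (ε z * (z ^ (m ^ (n + 1)))⁻¹) * z ^ (m ^ (n + 1)) := by group
      have hzM : z ^ (m ^ (n + 1)) ∈ L n := Subgroup.pow_mem _ hz _
      have h3 : QuotientGroup.mk' (L (n + 2)) ⁅ε z * (z ^ (m ^ (n + 1)))⁻¹, s⁆ = 1 := by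
        rw [QuotientGroup.mk'_apply, QuotientGroup.eq_one_iff]
        exact Subgroup.commutator_mem_commutator hu (Subgroup.mem_top s)
      rw [map_commutatorElement, hs, pi_comm_pow_right n _ (map_lcs_le ε n z hz), e1,
        pi_comm_left n _ _ hzM, h3, mul_one, pi_comm_pow_left n z hz, ← pow_mul, ← pow_succ]
    have all_step : ∀ g ∈ Subgroup.closure ({a, b} : Set K), ∀ z ∈ L n,
        QuotientGroup.mk' (L (n + 2)) (ε ⁅z, g⁆)
          = (QuotientGroup.mk' (L (n + 2)) ⁅z, g⁆) ^ (m ^ (n + 2)) := by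
      intro g hg
      induction hg using Subgroup.closure_induction with
      | mem x hx =>
        intro z hz
        rcases hx with rfl | hx
        · exact gen_step z hz _ ha
        · rw [Set.mem_singleton_iff] at hx; subst hx; exact gen_step z hz _ hb
      | one =>
        intro z _
        rw [commutatorElement_one_right, map_one, map_one, one_pow]
      | mul x y _ _ ihx ihy =>
        intro z hz
        have hεz := map_lcs_le ε n z hz
        rw [map_commutatorElement, map_mul, pi_comm_right n _ hεz, ← map_commutatorElement,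
          ← map_commutatorElement, ihx z hz, ihy z hz, pi_comm_right n z hz,
          (pi_comm_central n z hz x _).mul_pow]
      | inv x _ ihx =>
        intro z hz
        have hεz := map_lcs_le ε n z hz
        rw [map_commutatorElement, map_inv, pi_comm_inv_right n _ hεz, ← map_commutatorElement,
          ihx z hz, pi_comm_inv_right n z hz, inv_pow]
    let T : Subgroup K :=
      { carrier := {t | t ∈ L (n + 1) ∧ QuotientGroup.mk' (L (n + 2)) (ε t)
          = (QuotientGroup.mk' (L (n + 2)) t) ^ (m ^ (n + 2))}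
        mul_mem' := by
          rintro x y ⟨hx, hx'⟩ ⟨hy, hy'⟩
          refine ⟨Subgroup.mul_mem _ hx hy, ?_⟩
          rw [map_mul, map_mul, hx', hy', map_mul, (central_mk (n + 1) x hx y).mul_pow]
        one_mem' := ⟨Subgroup.one_mem _, by rw [map_one, map_one, one_pow]⟩
        inv_mem' := by
          rintro x ⟨hx, hx'⟩
          refine ⟨Subgroup.inv_mem _ hx, ?_⟩
          rw [map_inv, map_inv, hx', map_inv, inv_pow] }
    have hT : L (n + 1) ≤ T := by
      rw [Subgroup.lowerCentralSeries_succ, Subgroup.commutator_def, Subgroup.closure_le]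
      rintro t ⟨z, hz, g, _, rfl⟩
      refine ⟨Subgroup.commutator_mem_commutator hz (Subgroup.mem_top g), ?_⟩
      exact all_step g (by rw [hgen]; exact Subgroup.mem_top g) z hz
    intro t ht
    have h1 := (hT ht).2
    have h2 : QuotientGroup.mk' (L (n + 2)) (ε t * (t ^ (m ^ (n + 1 + 1)))⁻¹) = 1 := by
      rw [map_mul, map_inv, map_pow, h1]
      exact mul_inv_cancel _
    exact (QuotientGroup.eq_one_iff _).1 h2

end homog


section closureC

variable {K : Type*} [Group K]

theorem InC.quot {p c : ℕ} (h : InC p c K) (N : Subgroup K) [N.Normal] : InC p c (K ⧸ N) := by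
  constructor
  · have h1 : (⊤ : Subgroup (K ⧸ N)) = (⊤ : Subgroup K).map (QuotientGroup.mk' N) :=
      (Subgroup.map_top_of_surjective _ (QuotientGroup.mk'_surjective N)).symm
    rw [h1, ← Subgroup.map_lowerCentralSeries, h.1, Subgroup.map_bot]
  · intro d hd
    have h1 : commutator (K ⧸ N) = (commutator K).map (QuotientGroup.mk' N) := by
      rw [_root_.commutator_def, _root_.commutator_def, Subgroup.map_commutator,
        Subgroup.map_top_of_surjective _ (QuotientGroup.mk'_surjective N)]
    rw [h1] at hd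
    obtain ⟨d0, hd0, rfl⟩ := hd
    rw [← map_pow, h.2 d0 hd0, map_one]

theorem InC.quot_lcs {p n : ℕ} (h : InC p (n + 1) K) :
    InC p n (K ⧸ (⊤ : Subgroup K).lowerCentralSeries n) := by
  refine ⟨?_, (h.quot _).2⟩
  have h1 : (⊤ : Subgroup (K ⧸ (⊤ : Subgroup K).lowerCentralSeries n))
      = (⊤ : Subgroup K).map (QuotientGroup.mk' ((⊤ : Subgroup K).lowerCentralSeries n)) :=
    (Subgroup.map_top_of_surjective _ (QuotientGroup.mk'_surjective _)).symm
  rw [h1, ← Subgroup.map_lowerCentralSeries]
  exact QuotientGroup.map_mk'_self _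

theorem InC.sub {p c c' : ℕ} (h : InC p c K) (S : Subgroup K)
    (hS : S.lowerCentralSeries c' = ⊥) : InC p c' ↥S := by
  constructor
  · have h1 := Subgroup.top_subtype_lowerCentralSeries S c'
    rw [hS] at h1
    exact (Subgroup.map_eq_bot_iff_of_injective _ S.subtype_injective).1 h1
  · intro d hd
    have h1 : (d : K) ∈ commutator K := by
      have h2 : (commutator ↥S).map S.subtype ≤ commutator K := by
        rw [_root_.commutator_def, Subgroup.map_commutator, _root_.commutator_def]
        exact Subgroup.commutator_mono le_top le_top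
      exact h2 (Subgroup.mem_map_of_mem _ hd)
    have h3 := h.2 _ h1
    apply Subtype.ext
    rw [Subgroup.coe_pow, h3]
    rfl

theorem lcs_pair {n : ℕ} (hn : 1 ≤ n)
    (hK : (⊤ : Subgroup K).lowerCentralSeries (n + 1) = ⊥) (u d : K) (hd : d ∈ commutator K) :
    (Subgroup.closure ({u, d} : Set K)).lowerCentralSeries n = ⊥ := by
  have hd1 : d ∈ (⊤ : Subgroup K).lowerCentralSeries 1 := hd
  have step1 : ∀ x ∈ Subgroup.closure ({u, d} : Set K),
      Commute (QuotientGroup.mk' ((⊤ : Subgroup K).lowerCentralSeries 2) x)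
        (QuotientGroup.mk' ((⊤ : Subgroup K).lowerCentralSeries 2) u) ∧
      Commute (QuotientGroup.mk' ((⊤ : Subgroup K).lowerCentralSeries 2) x)
        (QuotientGroup.mk' ((⊤ : Subgroup K).lowerCentralSeries 2) d) := by
    intro x hx
    induction hx using Subgroup.closure_induction with
    | mem x hx =>
      rcases hx with rfl | hx
      · exact ⟨Commute.refl _, (central_mk 1 d hd1 x).symm⟩
      · rw [Set.mem_singleton_iff] at hx; subst hx
        exact ⟨central_mk 1 x hd1 u, Commute.refl _⟩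
    | one => rw [map_one]; exact ⟨Commute.one_left _, Commute.one_left _⟩
    | mul x y _ _ ihx ihy =>
      rw [map_mul]; exact ⟨ihx.1.mul_left ihy.1, ihx.2.mul_left ihy.2⟩
    | inv x _ ihx => rw [map_inv]; exact ⟨ihx.1.inv_left, ihx.2.inv_left⟩
  have step2 : ∀ y ∈ Subgroup.closure ({u, d} : Set K),
      ∀ x ∈ Subgroup.closure ({u, d} : Set K),
      Commute (QuotientGroup.mk' ((⊤ : Subgroup K).lowerCentralSeries 2) x)
        (QuotientGroup.mk' ((⊤ : Subgroup K).lowerCentralSeries 2) y) := by
    intro y hy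
    induction hy using Subgroup.closure_induction with
    | mem y hy =>
      intro x hx
      rcases hy with rfl | hy
      · exact (step1 x hx).1
      · rw [Set.mem_singleton_iff] at hy; subst hy
        exact (step1 x hx).2
    | one => intro x _; rw [map_one]; exact Commute.one_right _
    | mul y y' _ _ ihy ihy' =>
      intro x hx; rw [map_mul]; exact (ihy x hx).mul_right (ihy' x hx)
    | inv y _ ihy => intro x hx; rw [map_inv]; exact (ihy x hx).inv_right
  have base : ⁅Subgroup.closure ({u, d} : Set K), Subgroup.closure ({u, d} : Set K)⁆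
      ≤ (⊤ : Subgroup K).lowerCentralSeries 2 := by
    rw [Subgroup.commutator_le]
    intro x hx y hy
    have h1 := step2 y hy x hx
    have h2 : QuotientGroup.mk' ((⊤ : Subgroup K).lowerCentralSeries 2) ⁅x, y⁆ = 1 := by
      rw [map_commutatorElement]
      exact commutatorElement_eq_one_iff_commute.2 h1
    exact (QuotientGroup.eq_one_iff _).1 h2
  have key : ∀ j, 1 ≤ j → (Subgroup.closure ({u, d} : Set K)).lowerCentralSeries j
      ≤ (⊤ : Subgroup K).lowerCentralSeries (j + 1) := by
    intro j hj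
    induction j, hj using Nat.le_induction with
    | base => exact base
    | succ j hj ih =>
      show ⁅(Subgroup.closure ({u, d} : Set K)).lowerCentralSeries j, _⁆
        ≤ ⁅(⊤ : Subgroup K).lowerCentralSeries (j + 1), ⊤⁆
      exact Subgroup.commutator_mono ih le_top
  rw [eq_bot_iff, ← hK]
  exact key n hn

end closureC

section free

variable (p c : ℕ)

def Nrel : Subgroup (FreeGroup (Fin 2)) :=
  (⊤ : Subgroup (FreeGroup (Fin 2))).lowerCentralSeries c ⊔
    Subgroup.normalClosure {x | ∃ d ∈ commutator (FreeGroup (Fin 2)), x = d ^ p}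

instance Nrel_normal : (Nrel p c).Normal := by
  unfold Nrel
  exact Subgroup.sup_normal _ _

abbrev FreeC : Type := FreeGroup (Fin 2) ⧸ Nrel p c

def gx : FreeC p c := QuotientGroup.mk' (Nrel p c) (FreeGroup.of 0)

def gy : FreeC p c := QuotientGroup.mk' (Nrel p c) (FreeGroup.of 1)

theorem freeC_inC : InC p c (FreeC p c) := by
  constructor
  · have h1 : (⊤ : Subgroup (FreeC p c))
        = (⊤ : Subgroup (FreeGroup (Fin 2))).map (QuotientGroup.mk' (Nrel p c)) :=
      (Subgroup.map_top_of_surjective _ (QuotientGroup.mk'_surjective _)).symm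
    rw [h1, ← Subgroup.map_lowerCentralSeries, eq_bot_iff]
    rintro _ ⟨z, hz, rfl⟩
    rw [Subgroup.mem_bot]
    exact (QuotientGroup.eq_one_iff z).2 (Subgroup.mem_sup_left hz)
  · intro d hd
    have h1 : commutator (FreeC p c)
        = (commutator (FreeGroup (Fin 2))).map (QuotientGroup.mk' (Nrel p c)) := by
      rw [_root_.commutator_def, _root_.commutator_def, Subgroup.map_commutator,
        Subgroup.map_top_of_surjective _ (QuotientGroup.mk'_surjective _)]
    rw [h1] at hd
    obtain ⟨d0, hd0, rfl⟩ := hd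
    rw [← map_pow]
    refine (QuotientGroup.eq_one_iff _).2 ?_
    exact Subgroup.mem_sup_right (Subgroup.subset_normalClosure ⟨d0, hd0, rfl⟩)

theorem freeC_gen : Subgroup.closure ({gx p c, gy p c} : Set (FreeC p c)) = ⊤ := by
  have h1 : Subgroup.closure (Set.range (FreeGroup.of : Fin 2 → FreeGroup (Fin 2))) = ⊤ :=
    FreeGroup.closure_range_of _
  have h2 := congrArg (Subgroup.map (QuotientGroup.mk' (Nrel p c))) h1
  rw [MonoidHom.map_closure, Subgroup.map_top_of_surjective _ (QuotientGroup.mk'_surjective _)]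
    at h2
  rw [← h2]
  congr 1
  ext t
  constructor
  · rintro (rfl | rfl)
    · exact ⟨_, ⟨0, rfl⟩, rfl⟩
    · exact ⟨_, ⟨1, rfl⟩, rfl⟩
  · rintro ⟨_, ⟨i, rfl⟩, rfl⟩
    fin_cases i
    · left; rfl
    · right; rfl

def epsFree (m : ℕ) : FreeGroup (Fin 2) →* FreeGroup (Fin 2) :=
  FreeGroup.lift (fun i => (FreeGroup.of i) ^ m)

theorem epsFree_le (m : ℕ) : Nrel p c ≤ (Nrel p c).comap (epsFree m) := by
  haveI : ((Nrel p c).comap (epsFree m)).Normal := Subgroup.Normal.comap (Nrel_normal p c) _
  unfold Nrel at *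
  apply sup_le
  · rw [← Subgroup.map_le_iff_le_comap]
    refine le_trans ?_ le_sup_left
    rw [Subgroup.map_lowerCentralSeries]
    exact Subgroup.lowerCentralSeries_mono c le_top
  · apply Subgroup.normalClosure_le_normal
    rintro x ⟨d, hd, rfl⟩
    rw [SetLike.mem_coe, Subgroup.mem_comap, map_pow]
    apply Subgroup.mem_sup_right
    refine Subgroup.subset_normalClosure ⟨epsFree m d, ?_, rfl⟩
    have h2 : (commutator (FreeGroup (Fin 2))).map (epsFree m) ≤ commutator (FreeGroup (Fin 2)) := by
      rw [_root_.commutator_def, Subgroup.map_commutator]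
      exact Subgroup.commutator_mono le_top le_top
    exact h2 (Subgroup.mem_map_of_mem _ hd)

def eps (m : ℕ) : FreeC p c →* FreeC p c :=
  QuotientGroup.map (Nrel p c) (Nrel p c) (epsFree m) (epsFree_le p c m)

theorem eps_gx (m : ℕ) : eps p c m (gx p c) = (gx p c) ^ m := by
  show QuotientGroup.map _ _ _ _ (QuotientGroup.mk _) = _
  rw [QuotientGroup.map_mk]
  show QuotientGroup.mk' (Nrel p c) (epsFree m (FreeGroup.of 0)) = _
  rw [epsFree, FreeGroup.lift_apply_of, map_pow]
  rfl

theorem eps_gy (m : ℕ) : eps p c m (gy p c) = (gy p c) ^ m := by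
  show QuotientGroup.map _ _ _ _ (QuotientGroup.mk _) = _
  rw [QuotientGroup.map_mk]
  show QuotientGroup.mk' (Nrel p c) (epsFree m (FreeGroup.of 1)) = _
  rw [epsFree, FreeGroup.lift_apply_of, map_pow]
  rfl

theorem freeC_lift {K : Type*} [Group K] (hK : InC p c K) (a b : K) :
    ∃ φ : FreeC p c →* K, φ (gx p c) = a ∧ φ (gy p c) = b := by
  have hle : Nrel p c ≤ (FreeGroup.lift ![a, b] : FreeGroup (Fin 2) →* K).ker := by
    unfold Nrel
    apply sup_le
    · intro z hz
      rw [MonoidHom.mem_ker]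
      have h1 : ((⊤ : Subgroup (FreeGroup (Fin 2))).lowerCentralSeries c).map
          (FreeGroup.lift ![a, b] : FreeGroup (Fin 2) →* K)
          ≤ (⊤ : Subgroup K).lowerCentralSeries c := by
        rw [Subgroup.map_lowerCentralSeries]
        exact Subgroup.lowerCentralSeries_mono c le_top
      have h2 := h1 (Subgroup.mem_map_of_mem _ hz)
      rw [hK.1] at h2
      exact Subgroup.mem_bot.1 h2
    · apply Subgroup.normalClosure_le_normal
      rintro x ⟨d, hd, rfl⟩
      rw [SetLike.mem_coe, MonoidHom.mem_ker, map_pow]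
      apply hK.2
      have h2 : (commutator (FreeGroup (Fin 2))).map
          (FreeGroup.lift ![a, b] : FreeGroup (Fin 2) →* K) ≤ commutator K := by
        rw [_root_.commutator_def, Subgroup.map_commutator, _root_.commutator_def]
        exact Subgroup.commutator_mono le_top le_top
      exact h2 (Subgroup.mem_map_of_mem _ hd)
  refine ⟨QuotientGroup.lift (Nrel p c) (FreeGroup.lift ![a, b]) hle, ?_, ?_⟩
  · show QuotientGroup.lift _ _ _ (QuotientGroup.mk _) = _
    rw [QuotientGroup.lift_mk, FreeGroup.lift_apply_of]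
    rfl
  · show QuotientGroup.lift _ _ _ (QuotientGroup.mk _) = _
    rw [QuotientGroup.lift_mk, FreeGroup.lift_apply_of]
    rfl

end free


section main

variable (p : ℕ) [hp : Fact p.Prime]

theorem exists_mult (c : ℕ) (hc2 : 2 ≤ c) (hcp : c ≤ p - 1) :
    ∃ m : ℕ, ¬ (m ^ c ≡ m [MOD p]) := by
  obtain ⟨g, hg⟩ := IsCyclic.exists_generator (α := (ZMod p)ˣ)
  have hord : orderOf g = p - 1 := by
    rw [orderOf_eq_card_of_forall_mem_zpowers hg, Nat.card_eq_fintype_card, ZMod.card_units]
  refine ⟨(g : ZMod p).val, ?_⟩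
  intro h
  have h1 : (((g : ZMod p).val ^ c : ℕ) : ZMod p) = (((g : ZMod p).val : ℕ) : ZMod p) :=
    (ZMod.natCast_eq_natCast_iff _ _ _).2 h
  rw [Nat.cast_pow, ZMod.natCast_zmod_val] at h1
  have h2 : g ^ c = g := Units.ext (by rw [Units.val_pow_eq_pow_val]; exact h1)
  have h3 : g ^ (c - 1) = 1 := by
    have h4 : g ^ (c - 1) * g = 1 * g := by
      rw [← pow_succ, Nat.sub_add_cancel (by omega), one_mul]; exact h2
    exact mul_right_cancel h4
  have h4 : c - 1 ≠ 0 := by omega
  have h5 : c - 1 < orderOf g := by rw [hord]; omega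
  exact pow_ne_one_of_lt_orderOf h4 h5 h3

theorem thmA0 : ∀ c : ℕ, c ≤ p - 1 → ∀ (K : Type) [Group K], InC p c K →
    ∀ a b : K, (a * b) ^ p = a ^ p * b ^ p := by
  intro c
  induction c with
  | zero =>
    intro _ K _ hK a b
    have h1 : ∀ x : K, x = 1 := fun x => by
      have h2 : x ∈ (⊤ : Subgroup K).lowerCentralSeries 0 := Subgroup.mem_top x
      rw [hK.1] at h2; exact Subgroup.mem_bot.1 h2
    rw [h1 a, h1 b]; simp
  | succ n ih =>
    intro hcp K _ hK a b
    rcases Nat.eq_zero_or_pos n with rfl | hn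
    · have hcomm : Commute a b := by
        have h2 : ⁅a, b⁆ ∈ (⊤ : Subgroup K).lowerCentralSeries (0 + 1) :=
          Subgroup.commutator_mem_commutator (Subgroup.mem_top a) (Subgroup.mem_top b)
        rw [hK.1] at h2
        exact commutatorElement_eq_one_iff_commute.1 (Subgroup.mem_bot.1 h2)
      exact hcomm.mul_pow p
    · obtain ⟨φ, hφa, hφb⟩ := freeC_lift p (n + 1) hK a b
      suffices h : (gx p (n + 1) * gy p (n + 1)) ^ p = gx p (n + 1) ^ p * gy p (n + 1) ^ p by
        have h2 := congrArg φ h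
        rwa [map_pow, map_mul, map_mul, map_pow, map_pow, hφa, hφb] at h2
      generalize hx : gx p (n + 1) = x
      generalize hy : gy p (n + 1) = y
      have hF : InC p (n + 1) (FreeC p (n + 1)) := freeC_inC p (n + 1)
      have ihn := ih (by omega)
      have hα : ∀ u d : FreeC p (n + 1), d ∈ commutator (FreeC p (n + 1)) →
          (u * d) ^ p = u ^ p := by
        intro u d hd
        have hS := lcs_pair hn hF.1 u d hd
        have hInS := hF.sub (Subgroup.closure ({u, d} : Set (FreeC p (n + 1)))) hS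
        have hu : u ∈ Subgroup.closure ({u, d} : Set (FreeC p (n + 1))) :=
          Subgroup.subset_closure (by simp)
        have hd' : d ∈ Subgroup.closure ({u, d} : Set (FreeC p (n + 1))) :=
          Subgroup.subset_closure (by simp)
        have h1 := ihn _ hInS ⟨u, hu⟩ ⟨d, hd'⟩
        have h2 := congrArg Subtype.val h1
        simp only [Subgroup.coe_pow, Subgroup.coe_mul] at h2
        rw [h2, hF.2 d hd, mul_one]
      have hβ : ∀ g h : FreeC p (n + 1), Commute (g ^ p) h := by
        intro g h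
        have hd : g⁻¹ * h⁻¹ * g * h ∈ commutator (FreeC p (n + 1)) := by
          have e0 : g⁻¹ * h⁻¹ * g * h = ⁅g⁻¹, h⁻¹⁆ := by rw [commutatorElement_def]; group
          rw [e0, _root_.commutator_def]
          exact Subgroup.commutator_mem_commutator (Subgroup.mem_top _) (Subgroup.mem_top _)
        have h1 := hα g _ hd
        have e : g * (g⁻¹ * h⁻¹ * g * h) = h⁻¹ * g * h := by group
        rw [e] at h1
        have e2 : (h⁻¹ * g * h) ^ p = h⁻¹ * g ^ p * h := by
          have e3 := conj_pow (a := h⁻¹) (b := g) (i := p)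
          rw [inv_inv] at e3; exact e3
        rw [e2] at h1
        show g ^ p * h = h * g ^ p
        calc g ^ p * h = h * (h⁻¹ * g ^ p * h) := by group
          _ = h * g ^ p := by rw [h1]
      generalize hFdef : (x * y) ^ p * (x ^ p * y ^ p)⁻¹ = F
      have hFZ : F ∈ (⊤ : Subgroup (FreeC p (n + 1))).lowerCentralSeries n := by
        have hQ := hF.quot_lcs
        have h1 := ihn _ hQ (QuotientGroup.mk' _ x) (QuotientGroup.mk' _ y)
        have h2 : QuotientGroup.mk' ((⊤ : Subgroup (FreeC p (n + 1))).lowerCentralSeries n) F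
            = 1 := by
          rw [← hFdef, map_mul, map_inv, map_pow, map_mul, h1, map_mul, map_pow, map_pow]
          exact mul_inv_cancel _
        exact (QuotientGroup.eq_one_iff _).1 h2
      have hFc : ∀ g, Commute F g := by
        intro g
        have h2 : ⁅F, g⁆ ∈ (⊤ : Subgroup (FreeC p (n + 1))).lowerCentralSeries (n + 1) :=
          Subgroup.commutator_mem_commutator hFZ (Subgroup.mem_top g)
        rw [hF.1] at h2
        exact commutatorElement_eq_one_iff_commute.1 (Subgroup.mem_bot.1 h2)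
      have hFp : F ^ p = 1 := by
        apply hF.2
        have h2 : (⊤ : Subgroup (FreeC p (n + 1))).lowerCentralSeries n
            ≤ (⊤ : Subgroup (FreeC p (n + 1))).lowerCentralSeries 1 :=
          Subgroup.lowerCentralSeries_antitone _ hn
        exact h2 hFZ
      have hxy : (x * y) ^ p = F * (x ^ p * y ^ p) := by rw [← hFdef]; group
      suffices hF1 : F = 1 by rw [hxy, hF1, one_mul]
      obtain ⟨m, hm⟩ := exists_mult p (n + 1) (by omega) hcp
      by_contra hFne
      apply hm
      have hgen : Subgroup.closure ({x, y} : Set (FreeC p (n + 1))) = ⊤ := by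
        rw [← hx, ← hy]; exact freeC_gen p (n + 1)
      have hex : eps p (n + 1) m x = x ^ m := by rw [← hx]; exact eps_gx p (n + 1) m
      have hey : eps p (n + 1) m y = y ^ m := by rw [← hy]; exact eps_gy p (n + 1) m
      have hhom := homog x y hgen (eps p (n + 1) m) m hex hey n F hFZ
      rw [hF.1, Subgroup.mem_bot, mul_inv_eq_one] at hhom
      have e1 : (x ^ m * y ^ m) ^ p = F ^ (m ^ (n + 1)) * ((x ^ m) ^ p * (y ^ m) ^ p) := by
        have h2 := congrArg (eps p (n + 1) m) hxy
        rwa [map_pow, map_mul, map_mul, map_mul, map_pow, map_pow, hhom, hex, hey] at h2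
      have hd : ((x * y) ^ m)⁻¹ * (x ^ m * y ^ m) ∈ commutator (FreeC p (n + 1)) := by
        have h2 : QuotientGroup.mk' ((⊤ : Subgroup (FreeC p (n + 1))).lowerCentralSeries 1)
            (((x * y) ^ m)⁻¹ * (x ^ m * y ^ m)) = 1 := by
          rw [map_mul, map_inv, map_pow, map_mul, map_mul, map_pow, map_pow,
            (central_mk 0 x (Subgroup.mem_top x) y).mul_pow]
          exact inv_mul_cancel _
        exact (QuotientGroup.eq_one_iff _).1 h2
      have e2 : (x ^ m * y ^ m) ^ p = F ^ m * ((x ^ m) ^ p * (y ^ m) ^ p) := by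
        have e3 : x ^ m * y ^ m = (x * y) ^ m * (((x * y) ^ m)⁻¹ * (x ^ m * y ^ m)) := by group
        have e5 : ∀ t : FreeC p (n + 1), (t ^ p) ^ m = (t ^ m) ^ p := by
          intro t; rw [← pow_mul, ← pow_mul, mul_comm]
        rw [e3, hα _ _ hd, ← e5, hxy, (hFc _).mul_pow, (hβ x (y ^ p)).mul_pow, e5 x, e5 y]
      have e4 : F ^ (m ^ (n + 1)) = F ^ m := mul_right_cancel (e1.symm.trans e2)
      have hord : orderOf F = p := orderOf_eq_prime hFp hFne
      have h6 := pow_eq_pow_iff_modEq.1 e4
      rwa [hord] at h6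

theorem thmA {K : Type*} [Group K] {c : ℕ} (hc : c ≤ p - 1) (hK : InC p c K) (a b : K) :
    (a * b) ^ p = a ^ p * b ^ p := by
  obtain ⟨φ, hφa, hφb⟩ := freeC_lift p c hK a b
  have h := thmA0 p c hc (FreeC p c) (freeC_inC p c) (gx p c) (gy p c)
  have h2 := congrArg φ h
  rwa [map_pow, map_mul, map_mul, map_pow, map_pow, hφa, hφb] at h2

end main

end Cfsg.Agent.Lib.Helper20.ClassLtP
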