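import Mathlib
import Cfsg.Prelude.Def_Transfer
import Cfsg.Agent.Lib.Helper4.Card
import Cfsg.Agent.S3190
import Cfsg.Agent.S3772

set_option autoImplicit false

namespace Cfsg.Agent.Lib.Helper20.ESpecial

universe u

theorem normal_of_index_prime {S : Type*} [Group S] [Finite S] {p : ℕ} [Fact p.Prime]
    (hS : IsPGroup p S) (Q : Subgroup S) (hQi : Q.index = p) : Q.Normal := by
  obtain ⟨n, hn⟩ := IsPGroup.iff_card.mp hS
  have hn0 : n ≠ 0 := by
    rintro rfl
    have h1 := Subgroup.index_dvd_card Q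
    rw [hn, hQi, pow_zero] at h1
    exact (Fact.out : p.Prime).one_lt.ne' (Nat.dvd_one.mp h1)
  apply Subgroup.normal_of_index_eq_minFac_card
  rw [hQi, hn, Nat.pow_minFac hn0, (Fact.out : p.Prime).minFac_eq]

theorem mem_center_map_iff {S : Type*} [Group S] (Q : Subgroup S) (x : S) :
    x ∈ (Subgroup.center ↥Q).map Q.subtype ↔ x ∈ Q ∧ ∀ q ∈ Q, q * x = x * q := by
  constructor
  · rintro ⟨z, hz, rfl⟩
    refine ⟨z.2, fun q hq => ?_⟩
    have := Subgroup.mem_center_iff.mp hz ⟨q, hq⟩
    exact congrArg Subtype.val this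
  · rintro ⟨hx, h⟩
    refine ⟨⟨x, hx⟩, Subgroup.mem_center_iff.mpr ?_, rfl⟩
    intro q
    exact Subtype.ext (h q q.2)

theorem center_map_normal {S : Type*} [Group S] (Q : Subgroup S) [hQ : Q.Normal] :
    ((Subgroup.center ↥Q).map Q.subtype).Normal := by
  constructor
  intro x hx g
  rw [mem_center_map_iff] at hx ⊢
  obtain ⟨hxQ, hc⟩ := hx
  refine ⟨hQ.conj_mem x hxQ g, fun q hq => ?_⟩
  have h1 : g⁻¹ * q * g ∈ Q := by
    have := hQ.conj_mem q hq g⁻¹
    simpa using this
  have h2 := hc _ h1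
  calc q * (g * x * g⁻¹) = g * ((g⁻¹ * q * g) * x) * g⁻¹ := by group
    _ = g * (x * (g⁻¹ * q * g)) * g⁻¹ := by rw [h2]
    _ = g * x * g⁻¹ * q := by group

theorem le_center_of_normal_card_prime {S : Type*} [Group S] [Finite S] {p : ℕ} [Fact p.Prime]
    (hS : IsPGroup p S) (N : Subgroup S) [hN : N.Normal] (hcard : Nat.card N = p) :
    N ≤ Subgroup.center S := by
  have hNb : N ≠ ⊥ := by
    intro h
    rw [h, Subgroup.card_bot] at hcard
    exact (Fact.out : p.Prime).one_lt.ne hcard
  obtain ⟨w, hwN, hw1, hwc⟩ := Cfsg.Agent.S3190.normal_pgroup_fixed (⊤ : Subgroup S) N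
    (hS.to_subgroup ⊤) le_top (fun g _ w hw => hN.conj_mem w hw g) hNb
  have hz : Subgroup.zpowers w = N := by
    apply Subgroup.eq_of_le_of_card_ge (Subgroup.zpowers_le.mpr hwN)
    rw [hcard, Nat.card_zpowers]
    have h1 : orderOf w ∣ p := by
      rw [← hcard]
      exact Subgroup.orderOf_dvd_natCard N hwN
    rcases (Nat.dvd_prime (Fact.out : p.Prime)).mp h1 with h | h
    · exact absurd (orderOf_eq_one_iff.mp h) hw1
    · exact h.ge
  intro x hx
  rw [← hz] at hx
  obtain ⟨k, rfl⟩ := Subgroup.mem_zpowers_iff.mp hx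
  rw [Subgroup.mem_center_iff]
  intro g
  have hcomm : Commute g w := hwc g (Subgroup.mem_top g)
  exact (hcomm.zpow_right k).eq

theorem index_centralizer_eq_prime {S : Type*} [Group S] [Finite S] {p : ℕ} [Fact p.Prime]
    (N : Subgroup S) (hN : Nat.card N = p) (hNc : N ≤ Subgroup.center S) (x : S)
    (hx : ∀ g : S, g * x * g⁻¹ * x⁻¹ ∈ N) (hxc : x ∉ Subgroup.center S) :
    (Subgroup.centralizer ({x} : Set S)).index = p := by
  let φ : S →* N := MonoidHom.mk' (fun g => ⟨g * x * g⁻¹ * x⁻¹, hx g⟩) (by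
    intro a b
    apply Subtype.ext
    show a * b * x * (a * b)⁻¹ * x⁻¹ = (a * x * a⁻¹ * x⁻¹) * (b * x * b⁻¹ * x⁻¹)
    have h1 : b * x * b⁻¹ * x⁻¹ ∈ Subgroup.center S := hNc (hx b)
    have h2 := Subgroup.mem_center_iff.mp h1 a
    have h3 := Subgroup.mem_center_iff.mp h1 (a * x * a⁻¹ * x⁻¹)
    calc a * b * x * (a * b)⁻¹ * x⁻¹ = a * (b * x * b⁻¹ * x⁻¹) * x * a⁻¹ * x⁻¹ := by group
      _ = (b * x * b⁻¹ * x⁻¹) * a * x * a⁻¹ * x⁻¹ := by rw [h2]
      _ = (b * x * b⁻¹ * x⁻¹) * (a * x * a⁻¹ * x⁻¹) := by group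
      _ = (a * x * a⁻¹ * x⁻¹) * (b * x * b⁻¹ * x⁻¹) := h3.symm)
  have hφ : ∀ g : S, ((φ g : N) : S) = g * x * g⁻¹ * x⁻¹ := fun g => rfl
  have hker : φ.ker = Subgroup.centralizer ({x} : Set S) := by
    ext g
    rw [MonoidHom.mem_ker, Subgroup.mem_centralizer_singleton_iff]
    constructor
    · intro h
      have h4 : g * x * g⁻¹ * x⁻¹ = 1 := by rw [← hφ, h]; rfl
      calc g * x = (g * x * g⁻¹ * x⁻¹) * x * g := by group
        _ = x * g := by rw [h4, one_mul]
    · intro h
      apply Subtype.ext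
      rw [hφ, h]
      show x * g * g⁻¹ * x⁻¹ = 1
      group
  rw [← hker, Subgroup.index_ker]
  have h1 : Nat.card φ.range ∣ p := hN ▸ Subgroup.card_subgroup_dvd_card φ.range
  rcases (Nat.dvd_prime (Fact.out : p.Prime)).mp h1 with h | h
  · exfalso
    apply hxc
    rw [Subgroup.mem_center_iff]
    intro g
    have h2 : φ.range = ⊥ := Subgroup.eq_bot_of_card_eq _ h
    have h3 : φ g ∈ φ.range := ⟨g, rfl⟩
    rw [h2, Subgroup.mem_bot] at h3
    have h4 : g * x * g⁻¹ * x⁻¹ = 1 := by rw [← hφ, h3]; rfl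
    calc g * x = (g * x * g⁻¹ * x⁻¹) * x * g := by group
      _ = x * g := by rw [h4, one_mul]
  · exact h

theorem le_of_relIndex_prime {G : Type*} [Group G] {H K L : Subgroup G} (hHK : H ≤ K)
    (hKL : K ≤ L) (hp : (H.relIndex L).Prime) {x : G} (hxK : x ∈ K) (hxH : x ∉ H) : L ≤ K := by
  have h1 := Subgroup.relIndex_mul_relIndex H K L hHK hKL
  rw [← h1] at hp
  rcases Nat.prime_mul_iff.mp hp with ⟨_, h⟩ | ⟨_, h⟩
  · exact Subgroup.relIndex_eq_one.mp h
  · exact absurd (Subgroup.relIndex_eq_one.mp h hxK) hxH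

theorem eq_top_of_index_prime {G : Type*} [Group G] {H K : Subgroup G} (hHK : H ≤ K)
    (hp : H.index.Prime) {x : G} (hxK : x ∈ K) (hxH : x ∉ H) : K = ⊤ := by
  rw [← Subgroup.relIndex_top_right] at hp
  exact top_le_iff.mp (le_of_relIndex_prime hHK le_top hp hxK hxH)

theorem isCoatom_of_index_prime {G : Type*} [Group G] {H : Subgroup G} (hp : H.index.Prime) :
    IsCoatom H := by
  constructor
  · intro h
    rw [h, Subgroup.index_top] at hp
    exact Nat.not_prime_one hp
  · intro K hK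
    obtain ⟨x, hxK, hxH⟩ := SetLike.exists_of_lt hK
    exact eq_top_of_index_prime hK.le hp hxK hxH

theorem center_ne_top_of_comm {Q : Type*} [Group Q] [Finite Q] {p : ℕ} [Fact p.Prime]
    (hZ : Nat.card (Subgroup.center Q) = p) (hcomm : commutator Q = Subgroup.center Q) :
    Subgroup.center Q ≠ ⊤ := by
  intro h
  have h1 : commutator Q = ⊥ := (commutator_eq_bot_iff_center_eq_top Q).mpr h
  rw [hcomm] at h1
  rw [h1, Subgroup.card_bot] at hZ
  exact (Fact.out : p.Prime).one_lt.ne hZ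

theorem comm_mem_center {Q : Type*} [Group Q] (hcomm : commutator Q = Subgroup.center Q)
    (a b : Q) : a * b * a⁻¹ * b⁻¹ ∈ Subgroup.center Q := by
  rw [← hcomm]
  exact Subgroup.commutator_mem_commutator (Subgroup.mem_top a) (Subgroup.mem_top b)

theorem card_of_center_eq_commutator : ∀ (n : ℕ) (Q : Type u) [Group Q] [Finite Q] (p : ℕ)
    [Fact p.Prime], Nat.card Q = n → IsPGroup p Q → Nat.card (Subgroup.center Q) = p →
    commutator Q = Subgroup.center Q → ∃ k : ℕ, 1 ≤ k ∧ Nat.card Q = p ^ (1 + 2 * k) := by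
  intro n
  induction n using Nat.strong_induction_on with
  | _ n ih =>
    intro Q _ _ p _ hn hQ hZ hcomm
    have hp : p.Prime := Fact.out
    have hnc := center_ne_top_of_comm hZ hcomm
    obtain ⟨x, hx⟩ : ∃ x : Q, x ∉ Subgroup.center Q := by
      by_contra hcon
      push Not at hcon
      exact hnc (eq_top_iff.mpr fun x _ => hcon x)
    have hcommel := comm_mem_center hcomm
    have hC1 := index_centralizer_eq_prime (Subgroup.center Q) hZ le_rfl x
      (fun g => hcommel g x) hx
    obtain ⟨y, hy⟩ : ∃ y : Q, y ∉ Subgroup.centralizer ({x} : Set Q) := by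
      by_contra hcon
      push Not at hcon
      have : Subgroup.centralizer ({x} : Set Q) = ⊤ := eq_top_iff.mpr fun y _ => hcon y
      rw [this, Subgroup.index_top] at hC1
      exact hp.one_lt.ne hC1
    have hyc : y ∉ Subgroup.center Q := by
      intro h
      apply hy
      rw [Subgroup.mem_centralizer_singleton_iff]
      exact (Subgroup.mem_center_iff.mp h x).symm
    have hC2 := index_centralizer_eq_prime (Subgroup.center Q) hZ le_rfl y
      (fun g => hcommel g y) hyc
    obtain ⟨C₁, hC₁⟩ : ∃ C₁ : Subgroup Q, C₁ = Subgroup.centralizer ({x} : Set Q) := ⟨_, rfl⟩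
    obtain ⟨C₂, hC₂⟩ : ∃ C₂ : Subgroup Q, C₂ = Subgroup.centralizer ({y} : Set Q) := ⟨_, rfl⟩
    rw [← hC₁] at hC1 hy
    rw [← hC₂] at hC2
    have hxC1 : x ∈ C₁ := by rw [hC₁, Subgroup.mem_centralizer_singleton_iff]
    have hyC2 : y ∈ C₂ := by rw [hC₂, Subgroup.mem_centralizer_singleton_iff]
    have hxC2 : x ∉ C₂ := by
      intro h
      apply hy
      rw [hC₂, Subgroup.mem_centralizer_singleton_iff] at h
      rw [hC₁, Subgroup.mem_centralizer_singleton_iff]
      exact h.symm
    have hC1n : C₁.Normal := normal_of_index_prime hQ C₁ hC1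
    have hsup : C₂ ⊔ C₁ = ⊤ :=
      eq_top_of_index_prime le_sup_right (hC1 ▸ hp) (Subgroup.mem_sup_left hyC2) hy
    have e1 := Subgroup.card_mul_index C₁
    have e2 := Subgroup.card_mul_index C₂
    rw [hC1] at e1
    rw [hC2] at e2
    have hQpos : 0 < Nat.card Q := Nat.card_pos
    have hcardC : Nat.card ↥(C₁ ⊓ C₂) * (p * p) = Nat.card Q := by
      have h1 := Cfsg.Agent.Lib.Helper4.Card.card_mul_set C₂ C₁
      rw [← Subgroup.mul_normal C₂ C₁] at h1
      have h5 : Nat.card ↥(C₂ ⊔ C₁) = Nat.card ((↑(C₂ ⊔ C₁) : Set Q)) := rfl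
      rw [← h5, hsup, Subgroup.card_top, inf_comm] at h1
      apply Nat.eq_of_mul_eq_mul_left hQpos
      calc Nat.card Q * (Nat.card ↥(C₁ ⊓ C₂) * (p * p))
          = (Nat.card Q * Nat.card ↥(C₁ ⊓ C₂)) * (p * p) := by ring
        _ = (Nat.card C₂ * Nat.card C₁) * (p * p) := by rw [h1]
        _ = (Nat.card C₂ * p) * (Nat.card C₁ * p) := by ring
        _ = Nat.card Q * Nat.card Q := by rw [e1, e2]
    obtain ⟨C, hC⟩ : ∃ C : Subgroup Q, C = C₁ ⊓ C₂ := ⟨_, rfl⟩
    rw [← hC] at hcardC
    have hCpos : 0 < Nat.card C := Nat.card_pos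
    have hCC1 : C ≤ C₁ := hC ▸ inf_le_left
    have hCC2 : C ≤ C₂ := hC ▸ inf_le_right
    have hZC : Subgroup.center Q ≤ C := by
      rw [hC, hC₁, hC₂]
      exact le_inf (Subgroup.center_le_centralizer _) (Subgroup.center_le_centralizer _)
    have hrel : C.relIndex C₁ = p := by
      have h1 := Cfsg.Agent.Lib.Helper4.Card.card_eq_relIndex_mul_card_inf C C₁
      rw [inf_of_le_left hCC1] at h1
      have h2 : Nat.card C₁ = p * Nat.card C := by
        apply Nat.eq_of_mul_eq_mul_right hp.pos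
        rw [e1, ← hcardC]
        ring
      rw [h2] at h1
      exact (Nat.eq_of_mul_eq_mul_right hCpos h1).symm
    have hcenC : ∀ c : C, c ∈ Subgroup.center ↥C → (c : Q) ∈ Subgroup.center Q := by
      intro c hc
      have hCK : C ≤ Subgroup.centralizer ({(c : Q)} : Set Q) := by
        intro d hd
        rw [Subgroup.mem_centralizer_singleton_iff]
        have := Subgroup.mem_center_iff.mp hc ⟨d, hd⟩
        exact congrArg Subtype.val this
      have hxK : x ∈ Subgroup.centralizer ({(c : Q)} : Set Q) := by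
        rw [Subgroup.mem_centralizer_singleton_iff]
        have h1 := hCC1 c.2
        rw [hC₁, Subgroup.mem_centralizer_singleton_iff] at h1
        exact h1.symm
      have hyK : y ∈ Subgroup.centralizer ({(c : Q)} : Set Q) := by
        rw [Subgroup.mem_centralizer_singleton_iff]
        have h1 := hCC2 c.2
        rw [hC₂, Subgroup.mem_centralizer_singleton_iff] at h1
        exact h1.symm
      have h1 : C₁ ≤ Subgroup.centralizer ({(c : Q)} : Set Q) ⊓ C₁ :=
        le_of_relIndex_prime (le_inf hCK hCC1) inf_le_right (hrel ▸ hp) ⟨hxK, hxC1⟩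
          (fun h => hxC2 (hCC2 h))
      have h2 : Subgroup.centralizer ({(c : Q)} : Set Q) = ⊤ :=
        eq_top_of_index_prime (h1.trans inf_le_left) (hC1 ▸ hp) hyK hy
      rw [Subgroup.mem_center_iff]
      intro g
      have h3 : g ∈ Subgroup.centralizer ({(c : Q)} : Set Q) := h2 ▸ Subgroup.mem_top g
      exact Subgroup.mem_centralizer_singleton_iff.mp h3
    have hcardcen : Nat.card (Subgroup.center ↥C) = p := by
      have h1 : Subgroup.center ↥C = (Subgroup.center Q).subgroupOf C := by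
        ext c
        rw [Subgroup.mem_subgroupOf]
        constructor
        · exact hcenC c
        · intro h
          rw [Subgroup.mem_center_iff] at h ⊢
          intro d
          exact Subtype.ext (h d)
      rw [h1, Nat.card_congr (Subgroup.subgroupOfEquivOfLe hZC).toEquiv]
      exact hZ
    have hcommC : commutator ↥C ≤ Subgroup.center ↥C := by
      rw [commutator_def, Subgroup.commutator_le]
      intro a _ b _
      rw [Subgroup.mem_center_iff]
      intro d
      apply Subtype.ext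
      have := Subgroup.mem_center_iff.mp (hcommel a b) d
      simpa [commutatorElement_def] using this
    by_cases hab : commutator ↥C = ⊥
    · have h1 : Subgroup.center ↥C = ⊤ := (commutator_eq_bot_iff_center_eq_top ↥C).mp hab
      have h2 : Nat.card C = p := by rw [← hcardcen, h1, Subgroup.card_top]
      refine ⟨1, le_rfl, ?_⟩
      rw [← hcardC, h2]
      ring
    · have h1 : commutator ↥C = Subgroup.center ↥C := by
        apply Subgroup.eq_of_le_of_card_ge hcommC
        rw [hcardcen]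
        have h2 : Nat.card (commutator ↥C) ∣ p := hcardcen ▸ Subgroup.card_dvd_of_le hcommC
        rcases (Nat.dvd_prime hp).mp h2 with h | h
        · exact absurd (Subgroup.card_eq_one.mp h) hab
        · exact h.ge
      have hlt : Nat.card C < n := by
        rw [← hn, ← hcardC]
        have h2 : 2 ≤ p := hp.two_le
        have h3 : 1 < p * p := by nlinarith
        exact lt_mul_of_one_lt_right hCpos h3
      obtain ⟨k, hk1, hk⟩ := ih _ hlt C p rfl (hQ.to_subgroup C) hcardcen h1
      refine ⟨k + 1, by omega, ?_⟩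
      rw [← hcardC, hk]
      ring

theorem card_of_isExtraspecial {Q : Type u} [Group Q] [Finite Q] {p : ℕ} [Fact p.Prime]
    (h : Cfsg.IsExtraspecial p Q) : ∃ k : ℕ, 1 ≤ k ∧ Nat.card Q = p ^ (1 + 2 * k) :=
  card_of_center_eq_commutator _ Q p rfl h.1.1 h.2 h.1.2.2

theorem pow_mem_frattini {P : Type*} [Group P] [Finite P] {p : ℕ} [Fact p.Prime]
    (hP : IsPGroup p P) (x : P) : x ^ p ∈ frattini P :=
  Cfsg.Agent.S3772.mem_frattini_of_forall _
    (fun M hM => (Cfsg.Agent.S3772.pgroup_coatom hP M hM).1 x)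

theorem pow_pow_eq_one_of_isExtraspecial {Q : Type*} [Group Q] [Finite Q] {p : ℕ} [Fact p.Prime]
    (h : Cfsg.IsExtraspecial p Q) (y : Q) : (y ^ p) ^ p = 1 := by
  have h1 : y ^ p ∈ Subgroup.center Q := by
    rw [← h.1.2.1]
    exact pow_mem_frattini h.1.1 y
  have h2 : (⟨y ^ p, h1⟩ : Subgroup.center Q) ^ Nat.card (Subgroup.center Q) = 1 :=
    pow_card_eq_one'
  rw [h.2] at h2
  exact congrArg Subtype.val h2

end Cfsg.Agent.Lib.Helper20.ESpecial
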