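import Mathlib

set_option autoImplicit false

namespace Cfsg.Agent.Lib.Helper20.IrrPrime

open Polynomial

section add

variable {V : Type*} [AddCommGroup V]

noncomputable def ev (φ : AddMonoid.End V) : ℤ[X] →+* AddMonoid.End V :=
  (Polynomial.aeval (R := ℤ) (A := AddMonoid.End V) φ).toRingHom

noncomputable def act (φ : AddMonoid.End V) (f : ℤ[X]) (v : V) : V := (ev φ f) v

theorem act_X (φ : AddMonoid.End V) (v : V) : act φ X v = φ v := by
  simp [act, ev]

theorem act_one (φ : AddMonoid.End V) (v : V) : act φ 1 v = v := by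
  simp [act]

theorem act_mul (φ : AddMonoid.End V) (f g : ℤ[X]) (v : V) :
    act φ (f * g) v = act φ f (act φ g v) := by
  simp only [act, map_mul]; rfl

theorem act_comm (φ : AddMonoid.End V) (f g : ℤ[X]) (v : V) :
    act φ f (act φ g v) = act φ g (act φ f v) := by
  rw [← act_mul, ← act_mul, mul_comm]

theorem act_zero_right (φ : AddMonoid.End V) (f : ℤ[X]) : act φ f 0 = 0 := by
  simp only [act]; exact map_zero (ev φ f)

theorem act_add (φ : AddMonoid.End V) (f g : ℤ[X]) (v : V) :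
    act φ (f + g) v = act φ f v + act φ g v := by
  simp only [act, map_add]; rfl

theorem act_sub (φ : AddMonoid.End V) (f g : ℤ[X]) (v : V) :
    act φ (f - g) v = act φ f v - act φ g v := by
  simp only [act, map_sub]; rfl

theorem act_natCast (φ : AddMonoid.End V) (n : ℕ) (v : V) :
    act φ (n : ℤ[X]) v = n • v := by
  simp only [act, map_natCast]; rfl

theorem act_X_pow (φ : AddMonoid.End V) (n : ℕ) (v : V) :
    act φ (X ^ n) v = (⇑φ)^[n] v := by
  induction n generalizing v with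
  | zero => rw [pow_zero, act_one]; rfl
  | succ n ih => rw [pow_succ, act_mul, act_X, ih, Function.iterate_succ_apply]

theorem mem_ker_iff (φ : AddMonoid.End V) (f : ℤ[X]) :
    f ∈ RingHom.ker (ev φ) ↔ ∀ v, act φ f v = 0 := by
  rw [RingHom.mem_ker]
  constructor
  · intro h v
    simp only [act, h]; rfl
  · intro h
    apply DFunLike.ext
    intro v
    exact h v

theorem cyclic (φ : AddMonoid.End V)
    (hmin : ∀ B : AddSubgroup V, (∀ b ∈ B, φ b ∈ B) → B = ⊥ ∨ B = ⊤) (w : V) (hw : w ≠ 0)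
    (v : V) : ∃ f : ℤ[X], act φ f w = v := by
  obtain ⟨θ, hθ⟩ : ∃ θ : ℤ[X] →+ V, ∀ f, θ f = act φ f w :=
    ⟨{ toFun := fun f => act φ f w
       map_zero' := by
         have := act_sub φ 0 0 w
         rw [sub_zero, sub_self] at this
         exact this
       map_add' := fun f g => act_add φ f g w }, fun f => rfl⟩
  have hB := hmin θ.range (by
    rintro _ ⟨f, rfl⟩
    refine ⟨X * f, ?_⟩
    rw [hθ, hθ, act_mul, act_X])
  rcases hB with h | h
  · exfalso
    have h1 : w ∈ θ.range := ⟨1, by rw [hθ, act_one]⟩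
    rw [h] at h1
    exact hw (AddSubgroup.mem_bot.1 h1)
  · have h1 : v ∈ θ.range := h ▸ AddSubgroup.mem_top v
    obtain ⟨f, hf⟩ := h1
    exact ⟨f, by rw [← hθ, hf]⟩

theorem act_eq_zero (φ : AddMonoid.End V)
    (hmin : ∀ B : AddSubgroup V, (∀ b ∈ B, φ b ∈ B) → B = ⊥ ∨ B = ⊤) (f : ℤ[X]) (w : V)
    (hw : w ≠ 0) (h : act φ f w = 0) (v : V) : act φ f v = 0 := by
  obtain ⟨g, rfl⟩ := cyclic φ hmin w hw v
  rw [act_comm, h, act_zero_right]

theorem modEq_one [Finite V] (φ : AddMonoid.End V) {p : ℕ} [Fact p.Prime]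
    (hφ : ∀ v, (⇑φ)^[p] v = v) (hfix : ∀ v, φ v = v → v = 0) : Nat.card V ≡ 1 [MOD p] := by
  classical
  letI := Fintype.ofFinite V
  obtain ⟨f, hf⟩ : ∃ f : Function.End V, f = ⇑φ := ⟨_, rfl⟩
  have hpow : ∀ n : ℕ, (f ^ n : Function.End V) = (⇑φ)^[n] := by
    intro n
    induction n with
    | zero => rfl
    | succ n ih =>
      rw [pow_succ, ih, Function.iterate_succ, hf]; rfl
  have h1 : f ^ p ^ 1 = 1 := by
    rw [pow_one, hpow]
    funext v
    rw [hφ]; rfl
  have h2 := Equiv.Perm.card_fixedPoints_modEq (p := p) (n := 1) h1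
  have h3 : Fintype.card ↥(Function.fixedPoints f) = 1 := by
    rw [Fintype.card_eq_one_iff]
    refine ⟨⟨0, ?_⟩, fun y => Subtype.ext ?_⟩
    · subst hf; exact map_zero φ
    · have := y.2
      subst hf
      exact hfix y.1 this
  rw [Nat.card_eq_fintype_card]
  exact h3 ▸ h2

theorem card_le [Finite V] (φ : AddMonoid.End V) {p q : ℕ} [hp : Fact p.Prime]
    [hq : Fact q.Prime]
    (hV : ∀ v : V, q • v = 0) (hφ : ∀ v, (⇑φ)^[p] v = v) (hne : ∃ v, φ v ≠ v)
    (hmin : ∀ B : AddSubgroup V, (∀ b ∈ B, φ b ∈ B) → B = ⊥ ∨ B = ⊤) (e : ℕ)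
    (he : q ^ e % p = 1) (he1 : 1 < q ^ e) : Nat.card V ≤ q ^ e := by
  classical
  obtain ⟨v₀, hv₀⟩ := hne
  have hv₀0 : v₀ ≠ 0 := by
    rintro rfl
    exact hv₀ (map_zero φ)
  obtain ⟨I, hI⟩ : ∃ I : Ideal ℤ[X], I = RingHom.ker (ev φ) := ⟨_, rfl⟩
  have hmem : ∀ f : ℤ[X], f ∈ I ↔ ∀ v, act φ f v = 0 := by
    intro f; rw [hI, mem_ker_iff]
  haveI hprime : I.IsPrime := by
    constructor
    · intro htop
      have h1 : (1 : ℤ[X]) ∈ I := htop ▸ Submodule.mem_top
      rw [hmem] at h1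
      have h2 := h1 v₀
      rw [act_one] at h2
      exact hv₀0 h2
    · intro f g hfg
      by_contra hcon
      rw [not_or] at hcon
      rw [hmem] at hfg
      have : ∃ v, act φ g v ≠ 0 := by
        by_contra hall
        rw [not_exists] at hall
        apply hcon.2
        rw [hmem]
        intro v
        have := hall v
        rw [not_not] at this
        exact this
      obtain ⟨v, hv⟩ := this
      have h1 : act φ f (act φ g v) = 0 := by
        rw [← act_mul, hfg]
      exact hcon.1 ((hmem f).2 (act_eq_zero φ hmin f _ hv h1))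
  have hinj : Function.Injective
      (fun v : V => Ideal.Quotient.mk I (Classical.choose (cyclic φ hmin v₀ hv₀0 v))) := by
    intro v w hvw
    have h1 := Classical.choose_spec (cyclic φ hmin v₀ hv₀0 v)
    have h2 := Classical.choose_spec (cyclic φ hmin v₀ hv₀0 w)
    simp only at hvw
    rw [Ideal.Quotient.eq, hmem] at hvw
    have h3 := hvw v₀
    rw [act_sub, sub_eq_zero] at h3
    rw [← h1, ← h2, h3]
  have hinj2 : Function.Injective (fun k : ℤ[X] ⧸ I => act φ (Quotient.out k) v₀) := by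
    intro k k' hkk
    simp only at hkk
    have h1 : act φ (Quotient.out k - Quotient.out k') v₀ = 0 := by
      rw [act_sub, hkk, sub_self]
    have h2 := (hmem _).2 (act_eq_zero φ hmin _ v₀ hv₀0 h1)
    rw [← Ideal.Quotient.eq, Ideal.Quotient.mk_out, Ideal.Quotient.mk_out] at h2
    exact h2
  haveI : Finite (ℤ[X] ⧸ I) := Finite.of_injective _ hinj2
  have hq0 : ((q : ℕ) : ℤ[X] ⧸ I) = 0 := by
    have h1 : ((q : ℕ) : ℤ[X]) ∈ I := by
      rw [hmem]
      intro v
      rw [act_natCast, hV]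
    have h2 := Ideal.Quotient.eq_zero_iff_mem.2 h1
    rwa [map_natCast] at h2
  haveI : CharP (ℤ[X] ⧸ I) q := (CharP.charP_iff_prime_eq_zero hq.out).2 hq0
  haveI : ExpChar (ℤ[X] ⧸ I) q := ExpChar.prime hq.out
  have hXp : (Ideal.Quotient.mk I X) ^ p = 1 := by
    rw [← map_pow, ← map_one (Ideal.Quotient.mk I), Ideal.Quotient.eq, hmem]
    intro v
    rw [act_sub, act_X_pow, act_one, hφ, sub_self]
  have hXq : (Ideal.Quotient.mk I X) ^ q ^ e = Ideal.Quotient.mk I X := by
    have h1 : q ^ e = p * (q ^ e / p) + 1 := by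
      have := Nat.div_add_mod (q ^ e) p
      omega
    rw [h1, pow_succ, pow_mul, hXp, one_pow, one_mul]
  have hfrob : (iterateFrobenius (ℤ[X] ⧸ I) q e).comp (Ideal.Quotient.mk I) =
      Ideal.Quotient.mk I := by
    apply Polynomial.ringHom_ext'
    · exact RingHom.ext_int _ _
    · rw [RingHom.comp_apply, iterateFrobenius_def, hXq]
  have hall : ∀ t : ℤ[X] ⧸ I, t ^ q ^ e = t := by
    intro t
    obtain ⟨f, rfl⟩ := Ideal.Quotient.mk_surjective t
    have := congrArg (fun g : ℤ[X] →+* ℤ[X] ⧸ I => g f) hfrob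
    simp only [RingHom.comp_apply, iterateFrobenius_def] at this
    exact this
  letI := Fintype.ofFinite (ℤ[X] ⧸ I)
  have hdeg : (X ^ q ^ e - X : (ℤ[X] ⧸ I)[X]).natDegree = q ^ e := by
    rw [natDegree_sub_eq_left_of_natDegree_lt, natDegree_X_pow]
    rw [natDegree_X_pow, natDegree_X]
    exact he1
  have hne0 : (X ^ q ^ e - X : (ℤ[X] ⧸ I)[X]) ≠ 0 := by
    intro h0
    rw [h0, natDegree_zero] at hdeg
    omega
  have hroots : (Finset.univ : Finset (ℤ[X] ⧸ I)).val ⊆
      (X ^ q ^ e - X : (ℤ[X] ⧸ I)[X]).roots := by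
    intro t _
    rw [mem_roots hne0, IsRoot, eval_sub, eval_pow, eval_X, hall t, sub_self]
  have hcard := card_le_degree_of_subset_roots hroots
  rw [hdeg, Finset.card_univ, ← Nat.card_eq_fintype_card] at hcard
  exact (Nat.card_le_card_of_injective _ hinj).trans hcard

end add

section mul

theorem card_eq_comm {A : Type*} [CommGroup A] [Finite A] {p q : ℕ} [hp : Fact p.Prime]
    [hq : Fact q.Prime] (hAq : ∀ a : A, a ^ q = 1) (c : A →* A) (hc : ∀ a, (⇑c)^[p] a = a)
    (hne : ∃ a, c a ≠ a)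
    (hmin : ∀ B : Subgroup A, (∀ b ∈ B, c b ∈ B) → B = ⊥ ∨ B = ⊤) :
    Nat.card A = q ^ orderOf (q : ZMod p) := by
  classical
  obtain ⟨φ, hφdef⟩ : ∃ φ : AddMonoid.End (Additive A), φ = MonoidHom.toAdditive c := ⟨_, rfl⟩
  have hφc : ∀ v : Additive A, φ v = Additive.ofMul (c (Additive.toMul v)) := by
    intro v; rw [hφdef]; rfl
  have hV : ∀ v : Additive A, q • v = 0 := fun v => congrArg Additive.ofMul (hAq (Additive.toMul v))
  have hiter : ∀ n : ℕ, ∀ v : Additive A, (⇑φ)^[n] v = Additive.ofMul ((⇑c)^[n] (Additive.toMul v)) := by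
    intro n
    induction n with
    | zero => intro v; rfl
    | succ n ih =>
      intro v
      rw [Function.iterate_succ_apply, ih, Function.iterate_succ_apply, hφc]; rfl
  have hφ : ∀ v : Additive A, (⇑φ)^[p] v = v := by
    intro v
    rw [hiter, hc]; rfl
  have hne' : ∃ v : Additive A, φ v ≠ v := by
    obtain ⟨a, ha⟩ := hne
    refine ⟨Additive.ofMul a, ?_⟩
    rw [hφc]
    intro h
    exact ha (Additive.ofMul.injective h)
  have hmin' : ∀ B : AddSubgroup (Additive A), (∀ b ∈ B, φ b ∈ B) → B = ⊥ ∨ B = ⊤ := by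
    intro B hB
    have h1 := hmin (AddSubgroup.toSubgroup' B) (by
      intro b hb
      have := hB (Additive.ofMul b) hb
      rw [hφc] at this
      exact this)
    rcases h1 with h1 | h1
    · left
      exact AddSubgroup.toSubgroup'.injective (h1.trans (OrderIso.map_bot _).symm)
    · right
      exact AddSubgroup.toSubgroup'.injective (h1.trans (OrderIso.map_top _).symm)
  have hP : IsPGroup q A := fun a => ⟨1, by rw [pow_one]; exact hAq a⟩
  obtain ⟨d, hd⟩ := IsPGroup.iff_card.mp hP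
  have hcardV : Nat.card (Additive A) = q ^ d := hd
  have hfix : ∀ v : Additive A, φ v = v → v = 0 := by
    intro v hv
    obtain ⟨F, hF⟩ : ∃ F : AddSubgroup (Additive A), ∀ w, w ∈ F ↔ φ w = w :=
      ⟨{ carrier := {w | φ w = w}
         zero_mem' := map_zero φ
         add_mem' := by
           intro a b ha hb
           rw [Set.mem_setOf_eq] at ha hb ⊢
           rw [map_add, ha, hb]
         neg_mem' := by
           intro a ha
           rw [Set.mem_setOf_eq] at ha ⊢
           rw [map_neg, ha] }, fun w => Iff.rfl⟩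
    rcases hmin' F (by
      intro b hb
      rw [hF] at hb ⊢
      rw [hb, hb]) with h | h
    · have : v ∈ F := (hF v).2 hv
      rw [h] at this
      exact AddSubgroup.mem_bot.1 this
    · exfalso
      obtain ⟨w, hw⟩ := hne'
      exact hw ((hF w).1 (h ▸ AddSubgroup.mem_top w))
  have hL := modEq_one φ hφ hfix
  rw [hcardV] at hL
  have hqd : (q : ZMod p) ^ d = 1 := by
    have := (ZMod.natCast_eq_natCast_iff _ _ _).2 hL
    push_cast at this
    exact this
  have hdvd : orderOf (q : ZMod p) ∣ d := orderOf_dvd_of_pow_eq_one hqd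
  have hd0 : d ≠ 0 := by
    rintro rfl
    rw [pow_zero] at hd
    obtain ⟨a, ha⟩ := hne
    haveI : Subsingleton A := (Nat.card_eq_one_iff_unique.1 hd).1
    exact ha (Subsingleton.elim _ _)
  have he0 : orderOf (q : ZMod p) ≠ 0 := by
    intro h0
    rw [h0, zero_dvd_iff] at hdvd
    exact hd0 hdvd
  have he : q ^ orderOf (q : ZMod p) % p = 1 := by
    have h1 : ((q ^ orderOf (q : ZMod p) : ℕ) : ZMod p) = ((1 : ℕ) : ZMod p) := by
      push_cast
      exact pow_orderOf_eq_one _
    have h2 := (ZMod.natCast_eq_natCast_iff _ _ _).1 h1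
    have h3 : 1 % p = 1 := Nat.mod_eq_of_lt hp.out.one_lt
    rw [Nat.ModEq, h3] at h2
    exact h2
  have he1 : 1 < q ^ orderOf (q : ZMod p) := Nat.one_lt_pow he0 hq.out.one_lt
  have hU := card_le φ hV hφ hne' hmin' _ he he1
  rw [hcardV] at hU
  have hle : d ≤ orderOf (q : ZMod p) := (Nat.pow_le_pow_iff_right hq.out.one_lt).1 hU
  have hge : orderOf (q : ZMod p) ≤ d := Nat.le_of_dvd (Nat.pos_of_ne_zero hd0) hdvd
  rw [hd, le_antisymm hle hge]

theorem conj_iter {G : Type*} [Group G] (A : Subgroup G) [hAn : A.Normal] (x : G)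
    (c : ↥A →* ↥A) (hc : ∀ a : ↥A, ((c a : ↥A) : G) = x * a * x⁻¹) (n : ℕ) (a : ↥A) :
    (((⇑c)^[n] a : ↥A) : G) = x ^ n * a * (x ^ n)⁻¹ := by
  induction n generalizing a with
  | zero => simp
  | succ n ih =>
    rw [Function.iterate_succ_apply, ih, hc, pow_succ]; group

theorem card_eq {G : Type*} [Group G] [Finite G] {p q : ℕ} [hp : Fact p.Prime] (hq : q.Prime)
    (A : Subgroup G) [hAn : A.Normal] (hAc : ∀ a ∈ A, ∀ b ∈ A, a * b = b * a)
    (hAq : ∀ a ∈ A, a ^ q = 1)
    (x : G) (hx : x ^ p = 1) (hxA : ∃ a ∈ A, x * a * x⁻¹ ≠ a)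
    (hmin : ∀ B : Subgroup G, B ≤ A → (∀ b ∈ B, x * b * x⁻¹ ∈ B) → B = ⊥ ∨ B = A) :
    Nat.card A = q ^ orderOf (q : ZMod p) := by
  classical
  haveI : Fact q.Prime := ⟨hq⟩
  letI inst : CommGroup ↥A := { (inferInstance : Group ↥A) with
    mul_comm := fun a b => Subtype.ext (hAc a a.2 b b.2) }
  obtain ⟨c, hc⟩ : ∃ c : ↥A →* ↥A, ∀ a : ↥A, ((c a : ↥A) : G) = x * a * x⁻¹ :=
    ⟨{ toFun := fun a => ⟨x * a * x⁻¹, hAn.conj_mem a a.2 x⟩
       map_one' := Subtype.ext (by simp)
       map_mul' := fun a b => Subtype.ext (by simp) }, fun a => rfl⟩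
  refine card_eq_comm (A := ↥A) (fun a => Subtype.ext (by simpa using hAq a a.2)) c ?_ ?_ ?_
  · intro a
    apply Subtype.ext
    rw [conj_iter A x c hc, hx]; simp
  · obtain ⟨a, ha, hne⟩ := hxA
    refine ⟨⟨a, ha⟩, fun h => hne ?_⟩
    have := congrArg Subtype.val h
    rw [hc] at this
    exact this
  · intro B hB
    rcases hmin (B.map A.subtype) (Subgroup.map_subtype_le B) (by
      rintro _ ⟨b, hb, rfl⟩
      exact ⟨c b, hB b hb, hc b⟩) with h | h
    · left
      rw [Subgroup.map_eq_bot_iff_of_injective _ A.subtype_injective] at h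
      exact h
    · right
      rw [eq_top_iff]
      intro a _
      have : (a : G) ∈ B.map A.subtype := by rw [h]; exact a.2
      obtain ⟨b, hb, hba⟩ := this
      have : b = a := Subtype.ext hba
      rw [← this]; exact hb

end mul

end Cfsg.Agent.Lib.Helper20.IrrPrime
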