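import Mathlib
import Cfsg.Agent.S3783
import Cfsg.Agent.S0029
import Cfsg.Agent.S4218
import Cfsg.Agent.Lib.Helper20.HSFrob
import Cfsg.Agent.Lib.Helper20.ESpecial

set_option autoImplicit false
open Cfsg

namespace Cfsg.Agent.Lib.Helper20.Mazurov

theorem order_lift {G : Type*} [Group G] [Finite G] (N : Subgroup G) [N.Normal] (g : G) (m : ℕ)
    (hm0 : 0 < m) (hm : orderOf (QuotientGroup.mk' N g) = m) (hg : g ^ m ≠ 1) :
    ∃ p : ℕ, p.Prime ∧ p ∣ Nat.card N ∧ ∃ g' : G, orderOf g' = p * m := by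
  have hgN : g ^ m ∈ N := by
    rw [← QuotientGroup.eq_one_iff, QuotientGroup.mk_pow]
    have := pow_orderOf_eq_one (QuotientGroup.mk' N g)
    rw [hm] at this
    exact this
  obtain ⟨k, hk⟩ : ∃ k, k = orderOf (g ^ m) := ⟨_, rfl⟩
  have hkN : k ∣ Nat.card N := hk ▸ Subgroup.orderOf_dvd_natCard N hgN
  have hk1 : k ≠ 1 := by
    intro h
    rw [hk] at h
    exact hg (orderOf_eq_one_iff.mp h)
  have hmdvd : m ∣ orderOf g := by
    rw [← hm]
    exact orderOf_map_dvd _ g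
  have ho : orderOf g = m * k := by
    have := orderOf_pow_of_dvd (x := g) hm0.ne' hmdvd
    rw [← hk] at this
    rw [this, Nat.mul_div_cancel' hmdvd]
  obtain ⟨q, hq, hqk⟩ := Nat.exists_prime_and_dvd hk1
  obtain ⟨j, hj⟩ := hqk
  have hk0 : 0 < k := hk ▸ orderOf_pos _
  have hj0 : j ≠ 0 := by
    rintro rfl
    simp at hj
    omega
  refine ⟨q, hq, (Dvd.intro j hj.symm).trans hkN, g ^ j, ?_⟩
  have hjdvd : j ∣ orderOf g := by
    rw [ho, hj]
    exact Dvd.intro_left (m * q) (by ring)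
  rw [orderOf_pow_of_dvd hj0 hjdvd, ho, hj]
  rw [show m * (q * j) = (q * m) * j by ring]
  exact Nat.mul_div_cancel _ (Nat.pos_of_ne_zero hj0)

theorem prod_bridge {A : Type*} [CommGroup A] (f : ℕ → A) (N : ℕ → A) (h0 : N 0 = 1)
    (hs : ∀ k, N (k + 1) = N k * f k) : ∀ k, N k = ∏ i ∈ Finset.range k, f i := by
  intro k
  induction k with
  | zero => simpa using h0
  | succ k ih => rw [hs, ih, Finset.prod_range_succ]

theorem frob_centralize {G : Type*} [Group G] [Finite G] (F S : Subgroup G) (t : G) (m p : ℕ)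
    [Fact p.Prime] (hm0 : 0 < m)
    (hS : IsPGroup p S) (hFS : F ≤ Subgroup.normalizer (S : Set G))
    (hcop : (Nat.card F).Coprime (Nat.card S))
    (htF : t ∈ Subgroup.normalizer (F : Set G)) (htS : t ∈ Subgroup.normalizer (S : Set G))
    (hfpf : ∀ i, 0 < i → i < m → ∀ f ∈ F, t ^ i * f * (t ^ i)⁻¹ = f → f = 1)
    (hnorm : ∀ s ∈ S, (s * t) ^ m = t ^ m) :
    F ≤ Subgroup.centralizer (S : Set G) := by
  classical
  have hAc : ∀ a b : ↥S ⧸ frattini ↥S, a * b = b * a := by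
    intro a b
    induction a using QuotientGroup.induction_on with
    | H a =>
      induction b using QuotientGroup.induction_on with
      | H b =>
        rw [← QuotientGroup.mk_mul, ← QuotientGroup.mk_mul, QuotientGroup.eq]
        have h3 := Cfsg.Agent.S4218.comm_mem_frattini hS b⁻¹ a⁻¹
        have e : (a * b)⁻¹ * (b * a) = b⁻¹ * a⁻¹ * b⁻¹⁻¹ * a⁻¹⁻¹ := by group
        rw [e]; exact h3
  have hAexp : ∀ v : ↥S ⧸ frattini ↥S, v ^ Nat.card ↥S = 1 := by
    intro v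
    induction v using QuotientGroup.induction_on with
    | H r =>
      rw [← QuotientGroup.mk_pow, pow_card_eq_one']
      rfl
  let φ : ↥F →* MulAut (↥S ⧸ frattini ↥S) :=
    (Cfsg.Agent.S3783.frQuot ↥S).comp (S.normalizerMonoidHom.comp (Subgroup.inclusion hFS))
  let σ : MulAut ↥F := F.normalizerMonoidHom ⟨t, htF⟩
  let τ₀ : MulAut ↥S := S.normalizerMonoidHom ⟨t, htS⟩
  let τ : MulAut (↥S ⧸ frattini ↥S) := Cfsg.Agent.S3783.frQuot ↥S τ₀
  have hφ : ∀ (g : ↥F) (s : ↥S), φ g (QuotientGroup.mk s) =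
      QuotientGroup.mk (S.normalizerMonoidHom ⟨g, hFS g.2⟩ s) := fun _ _ => rfl
  have hτ : ∀ (s : ↥S), τ (QuotientGroup.mk s) = QuotientGroup.mk (τ₀ s) := fun _ => rfl
  have hστ : ∀ g, τ * φ g = φ (σ g) * τ := by
    intro g
    ext a
    induction a using QuotientGroup.induction_on with
    | H s =>
      rw [MulAut.mul_apply, MulAut.mul_apply, hφ, hτ, hτ, hφ]
      congr 1
      apply Subtype.ext
      show t * ((g : G) * s * (g : G)⁻¹) * t⁻¹
        = (t * (g : G) * t⁻¹) * (t * s * t⁻¹) * (t * (g : G) * t⁻¹)⁻¹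
      group
  have hσpow : ∀ (i : ℕ) (g : ↥F), (((σ ^ i) g : ↥F) : G) = t ^ i * g * (t ^ i)⁻¹ := by
    intro i g
    have : σ ^ i = F.normalizerMonoidHom ((⟨t, htF⟩ : ↥(Subgroup.normalizer (F : Set G))) ^ i) :=
      (map_pow _ _ _).symm
    rw [this]
    rfl
  have hτ₀pow : ∀ (i : ℕ) (s : ↥S), (((τ₀ ^ i) s : ↥S) : G) = t ^ i * s * (t ^ i)⁻¹ := by
    intro i s
    have : τ₀ ^ i = S.normalizerMonoidHom ((⟨t, htS⟩ : ↥(Subgroup.normalizer (S : Set G))) ^ i) :=
      (map_pow _ _ _).symm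
    rw [this]
    rfl
  have hτpow : ∀ (i : ℕ) (s : ↥S), (τ ^ i) (QuotientGroup.mk s) = QuotientGroup.mk ((τ₀ ^ i) s) := by
    intro i s
    have : τ ^ i = Cfsg.Agent.S3783.frQuot ↥S (τ₀ ^ i) := (map_pow _ _ _).symm
    rw [this]
    rfl
  have hfpfQ : ∀ i, 0 < i → i < m → ∀ g, (σ ^ i) g = g → g = 1 := by
    intro i hi0 him g hg
    have := hfpf i hi0 him g g.2 (by rw [← hσpow, hg])
    exact Subtype.ext this
  have hT : ∀ a : ↥S ⧸ frattini ↥S,
      @Finset.prod ℕ (↥S ⧸ frattini ↥S) (@CommGroup.toCommMonoid _ (CommGroup.mk hAc))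
        (Finset.range m) (fun i => (τ ^ i) a) = 1 := by
    intro a
    induction a using QuotientGroup.induction_on with
    | H s =>
      obtain ⟨n, hn0, hn1⟩ : ∃ n : ℕ → ↥S, n 0 = 1 ∧ ∀ k, n (k + 1) = n k * (τ₀ ^ k) s :=
        ⟨fun k => Nat.rec 1 (fun k acc => acc * (τ₀ ^ k) s) k, rfl, fun _ => rfl⟩
      have hnG : ∀ k, ((n k : ↥S) : G) = ((s : G) * t) ^ k * (t ^ k)⁻¹ := by
        intro k
        induction k with
        | zero => rw [hn0]; simp
        | succ k ih =>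
          rw [hn1, Subgroup.coe_mul, ih, hτ₀pow, pow_succ, pow_succ]
          group
      have hnm : n m = 1 := by
        apply Subtype.ext
        rw [hnG, hnorm s s.2, mul_inv_cancel]
        rfl
      have hb := @prod_bridge (↥S ⧸ frattini ↥S) (CommGroup.mk hAc)
        (fun i => (τ ^ i) (QuotientGroup.mk s)) (fun k => QuotientGroup.mk (n k))
        (by rw [hn0]; rfl)
        (by
          intro k
          rw [hn1, hτpow]
          rfl) m
      rw [← hb, hnm]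
      rfl
  have hinj : ∀ a : ↥S ⧸ frattini ↥S, a ^ Nat.card ↥F = 1 → a = 1 := by
    intro a ha
    exact Cfsg.Agent.S3783.eq_one_of_pow_of_coprime ha (hAexp a) hcop
  have key : ∀ g a, φ g a = a :=
    @Cfsg.Agent.Lib.Helper20.HS.frob_group_aux (↥S ⧸ frattini ↥S) (CommGroup.mk hAc) ↥F _ _
      φ σ τ hστ m hm0 hfpfQ hT hinj
  apply Cfsg.Agent.S0029.result F S hFS
  · exact Nat.Coprime.coprime_dvd_right (Subgroup.card_subgroup_dvd_card _) hcop
  · intro a ha k hk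
    have h1 := key ⟨a, ha⟩ (QuotientGroup.mk ⟨k, hk⟩)
    rw [hφ, QuotientGroup.eq_iff_div_mem] at h1
    refine ⟨_, h1, ?_⟩
    show a * k * a⁻¹ / k = a * k * a⁻¹ * k⁻¹
    rw [div_eq_mul_inv]

end Cfsg.Agent.Lib.Helper20.Mazurov
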