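import Mathlib
import Cfsg.Prelude.Def_OddOrderLocal

set_option autoImplicit false

namespace Cfsg.Agent.Lib.Helper20.Metacyc

open scoped commutatorElement

theorem emult_pow_sub_one {p : ℕ} (hp : p.Prime) (hp2 : p ≠ 2) {ρ : ℕ} (hρ : ρ % p = 1) (l : ℕ) :
    emultiplicity p (ρ ^ l - 1) = emultiplicity p (ρ - 1) + emultiplicity p l := by
  have hodd : Odd p := hp.odd_of_ne_two hp2
  have hρ1 : 1 ≤ ρ := by
    rcases Nat.eq_zero_or_pos ρ with h | h
    · subst h
      simp at hρ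
    · exact h
  have h1 : p ∣ ρ - 1 := by
    have : (1 : ℕ) ≡ ρ [MOD p] := by
      unfold Nat.ModEq
      rw [hρ, Nat.mod_eq_of_lt hp.one_lt]
    exact (Nat.modEq_iff_dvd' hρ1).mp this
  have h2 : ¬ p ∣ ρ := by
    intro h
    have := Nat.mod_eq_zero_of_dvd h
    omega
  have := Nat.emultiplicity_pow_sub_pow hp hodd (x := ρ) (y := 1) h1 h2 l
  simpa using this

theorem pow_dvd_mul_iff {p : ℕ} (hp : p.Prime) (hp2 : p ≠ 2) {ρ : ℕ} (hρ : ρ % p = 1)
    (c l t : ℕ) : p ^ t ∣ c * (ρ ^ l - 1) ↔ p ^ t ∣ c * l * (ρ - 1) := by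
  rw [pow_dvd_iff_le_emultiplicity, pow_dvd_iff_le_emultiplicity, Nat.Prime.emultiplicity_mul hp,
    Nat.Prime.emultiplicity_mul hp, Nat.Prime.emultiplicity_mul hp, emult_pow_sub_one hp hp2 hρ l]
  rw [add_assoc, add_comm (emultiplicity p l)]

section core

variable {G : Type*} [Group G] [Finite G] {p : ℕ} [Fact p.Prime]

theorem exists_gen (A : Subgroup G) [hA : IsCyclic A] :
    ∃ a ∈ A, ∀ x ∈ A, ∃ l : ℕ, x = a ^ l := by
  obtain ⟨⟨a, haA⟩, ha⟩ := IsCyclic.exists_monoid_generator (α := A)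
  refine ⟨a, haA, fun x hx => ?_⟩
  obtain ⟨l, hl⟩ := ha ⟨x, hx⟩
  exact ⟨l, by simpa using (congrArg Subtype.val hl).symm⟩

theorem comm_of_mem (A : Subgroup G) [hA : IsCyclic A] {x y : G} (hx : x ∈ A) (hy : y ∈ A) :
    x * y = y * x := by
  obtain ⟨a, -, ha⟩ := exists_gen A
  obtain ⟨i, rfl⟩ := ha x hx
  obtain ⟨j, rfl⟩ := ha y hy
  exact ((Commute.refl a).pow_pow i j).eq

theorem exists_rho (hG : IsPGroup p G) (A : Subgroup G) [hn : A.Normal] [hA : IsCyclic A]
    (g : G) : ∃ ρ : ℕ, ρ % p = 1 ∧ ∀ x ∈ A, g * x * g⁻¹ = x ^ ρ := by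
  obtain ⟨a, haA, gen⟩ := exists_gen A
  have hp : p.Prime := Fact.out
  by_cases ha1 : a = 1
  · refine ⟨1, Nat.mod_eq_of_lt hp.one_lt, fun x hx => ?_⟩
    obtain ⟨l, rfl⟩ := gen x hx
    simp [ha1]
  · obtain ⟨ρ₀, hρ₀⟩ := gen (g * a * g⁻¹) (hn.conj_mem a haA g)
    have hpow : ∀ N : ℕ, g ^ N * a * (g ^ N)⁻¹ = a ^ (ρ₀ ^ N) := by
      intro N
      induction N with
      | zero => simp
      | succ N ih =>
        calc g ^ (N + 1) * a * (g ^ (N + 1))⁻¹ = g * (g ^ N * a * (g ^ N)⁻¹) * g⁻¹ := by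
              rw [pow_succ']
              group
          _ = g * a ^ (ρ₀ ^ N) * g⁻¹ := by rw [ih]
          _ = (g * a * g⁻¹) ^ (ρ₀ ^ N) := by rw [conj_pow]
          _ = a ^ (ρ₀ ^ (N + 1)) := by rw [hρ₀, ← pow_mul, pow_succ']
    obtain ⟨e, he⟩ := hG g
    have h1 := hpow (p ^ e)
    rw [he] at h1
    simp only [one_mul, inv_one, mul_one] at h1
    have hpa : p ∣ orderOf a := by
      obtain ⟨k, hk⟩ := hG a
      have := orderOf_dvd_of_pow_eq_one hk
      obtain ⟨j, -, hj⟩ := (Nat.dvd_prime_pow hp).mp this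
      rcases j with _ | j
      · rw [pow_zero] at hj
        exact absurd (orderOf_eq_one_iff.mp hj) ha1
      · rw [hj]
        exact dvd_pow_self p (Nat.succ_ne_zero j)
    have hz : (ρ₀ : ZMod p) = 1 := by
      have h2 : a ^ (ρ₀ ^ p ^ e) = a ^ 1 := by
        rw [pow_one]
        exact h1.symm
      have h3 := pow_eq_pow_iff_modEq.mp h2
      have h4 : ρ₀ ^ p ^ e ≡ 1 [MOD p] := h3.of_dvd hpa
      have h5 : ((ρ₀ ^ p ^ e : ℕ) : ZMod p) = ((1 : ℕ) : ZMod p) :=
        (ZMod.natCast_eq_natCast_iff _ _ _).mpr h4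
      push_cast at h5
      rw [ZMod.pow_card_pow] at h5
      exact h5
    refine ⟨ρ₀, ?_, fun x hx => ?_⟩
    · have h6 : ((ρ₀ : ℕ) : ZMod p) = ((1 : ℕ) : ZMod p) := by
        rw [hz]
        simp
      have h7 := (ZMod.natCast_eq_natCast_iff' _ _ _).mp h6
      rw [h7, Nat.mod_eq_of_lt hp.one_lt]
    · obtain ⟨l, rfl⟩ := gen x hx
      rw [← conj_pow, hρ₀, ← pow_mul, ← pow_mul, mul_comm]

theorem conj_pow_rho (A : Subgroup G) {g : G} {ρ : ℕ} (hc : ∀ x ∈ A, g * x * g⁻¹ = x ^ ρ)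
    (N : ℕ) : ∀ x ∈ A, g ^ N * x * (g ^ N)⁻¹ = x ^ (ρ ^ N) := by
  induction N with
  | zero =>
    intro x _
    simp
  | succ N ih =>
    intro x hx
    calc g ^ (N + 1) * x * (g ^ (N + 1))⁻¹ = g * (g ^ N * x * (g ^ N)⁻¹) * g⁻¹ := by
          rw [pow_succ']
          group
      _ = g * x ^ (ρ ^ N) * g⁻¹ := by rw [ih x hx]
      _ = x ^ (ρ ^ (N + 1)) := by
          rw [hc _ (A.pow_mem hx _), ← pow_mul, pow_succ]

theorem normal_of_le (hG : IsPGroup p G) (A : Subgroup G) [hn : A.Normal] [hA : IsCyclic A]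
    {H : Subgroup G} (hH : H ≤ A) : H.Normal := by
  constructor
  intro h hh g
  obtain ⟨ρ, -, hc⟩ := exists_rho hG A g
  rw [hc h (hH hh)]
  exact H.pow_mem hh ρ

theorem comm_pow_iff (hp2 : p ≠ 2) (hG : IsPGroup p G) (A : Subgroup G) [hn : A.Normal]
    [hA : IsCyclic A] (g : G) {x : G} (hx : x ∈ A) (l : ℕ) :
    Commute (g ^ l) x ↔ Commute g (x ^ l) := by
  have hp : p.Prime := Fact.out
  obtain ⟨ρ, hρ, hc⟩ := exists_rho hG A g
  have hρ1 : 1 ≤ ρ := by
    rcases Nat.eq_zero_or_pos ρ with h | h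
    · subst h
      simp at hρ
    · exact h
  obtain ⟨t, ht⟩ := exists_orderOf_eq_prime_pow_iff.mpr (hG x)
  have h1 : Commute (g ^ l) x ↔ p ^ t ∣ 1 * (ρ ^ l - 1) := by
    have e1 : Commute (g ^ l) x ↔ x ^ (ρ ^ l) = x ^ 1 := by
      rw [← conj_pow_rho A hc l x hx, pow_one, mul_inv_eq_iff_eq_mul]
      exact Iff.rfl
    rw [e1, pow_eq_pow_iff_modEq, ht, one_mul, Nat.ModEq.comm,
      Nat.modEq_iff_dvd' (Nat.one_le_pow _ _ hρ1)]
  have h2 : Commute g (x ^ l) ↔ p ^ t ∣ 1 * l * (ρ - 1) := by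
    have e1 : Commute g (x ^ l) ↔ x ^ (l * ρ) = x ^ l := by
      rw [pow_mul, ← hc _ (A.pow_mem hx l), mul_inv_eq_iff_eq_mul]
      exact Iff.rfl
    have e2 : l * ρ - l = 1 * l * (ρ - 1) := by
      rw [one_mul, Nat.mul_sub, mul_one]
    rw [e1, pow_eq_pow_iff_modEq, ht, Nat.ModEq.comm,
      Nat.modEq_iff_dvd' (Nat.le_mul_of_pos_right l hρ1), e2]
  rw [h1, h2]
  exact pow_dvd_mul_iff hp hp2 hρ 1 l t

end core

section data

variable {G : Type*} [Group G] [Finite G] {p : ℕ} [Fact p.Prime]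

def Cov (A : Subgroup G) (b : G) : Prop := ∀ g : G, ∃ x ∈ A, ∃ i : ℕ, g = x * b ^ i

theorem exists_data (hmc : Cfsg.IsMetacyclic G) :
    ∃ (A : Subgroup G) (_ : A.Normal) (_ : IsCyclic A) (b : G), Cov A b := by
  obtain ⟨A, hn, hA, hQ⟩ := hmc
  obtain ⟨q, hq⟩ := IsCyclic.exists_monoid_generator (α := G ⧸ A)
  obtain ⟨b, rfl⟩ := QuotientGroup.mk_surjective q
  refine ⟨A, hn, hA, b, fun g => ?_⟩
  obtain ⟨i, hi⟩ := hq (QuotientGroup.mk g)
  have h1 : ((b ^ i : G) : G ⧸ A) = (g : G ⧸ A) := by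
    rw [QuotientGroup.mk_pow]
    exact hi
  have h2 : (b ^ i)⁻¹ * g ∈ A := QuotientGroup.eq.mp h1
  refine ⟨g * (b ^ i)⁻¹, ?_, i, by group⟩
  have h3 := hn.conj_mem _ h2 (b ^ i)
  have h4 : b ^ i * ((b ^ i)⁻¹ * g) * (b ^ i)⁻¹ = g * (b ^ i)⁻¹ := by group
  rw [h4] at h3
  exact h3

def cb (x b : G) : G := x * b * x⁻¹ * b⁻¹

theorem cb_mem (A : Subgroup G) [hn : A.Normal] {x : G} (hx : x ∈ A) (b : G) : cb x b ∈ A := by
  unfold cb
  have : x * b * x⁻¹ * b⁻¹ = x * (b * x⁻¹ * b⁻¹) := by group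
  rw [this]
  exact A.mul_mem hx (hn.conj_mem _ (A.inv_mem hx) b)

theorem cb_mul (A : Subgroup G) [hn : A.Normal] [IsCyclic A] {x y : G} (hx : x ∈ A)
    (hy : y ∈ A) (b : G) : cb (x * y) b = cb x b * cb y b := by
  have h1 : cb (x * y) b = x * (cb y b * (b * x⁻¹ * b⁻¹)) := by
    unfold cb
    group
  have h2 : cb x b * cb y b = x * ((b * x⁻¹ * b⁻¹) * cb y b) := by
    unfold cb
    group
  rw [h1, h2, comm_of_mem A (cb_mem A hy b) (hn.conj_mem _ (A.inv_mem hx) b)]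

theorem cb_pow (A : Subgroup G) [hn : A.Normal] [IsCyclic A] {x : G} (hx : x ∈ A) (b : G)
    (c : ℕ) : cb (x ^ c) b = cb x b ^ c := by
  induction c with
  | zero => simp [cb]
  | succ c ih => rw [pow_succ, cb_mul A (A.pow_mem hx c) hx, ih, pow_succ]

theorem cb_eq_one_iff (x b : G) : cb x b = 1 ↔ Commute x b := by
  unfold cb
  constructor
  · intro h
    have h2 : x * b * x⁻¹ * b⁻¹ * (b * x) = b * x := by rw [h, one_mul]
    have h3 : x * b * x⁻¹ * b⁻¹ * (b * x) = x * b := by group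
    rw [h3] at h2
    exact h2
  · intro h
    have h2 : x * b = b * x := h
    rw [h2]
    group

theorem mem_C_iff (A : Subgroup G) {a : G} (haA : a ∈ A) (ha : ∀ x ∈ A, ∃ l : ℕ, x = a ^ l)
    (g : G) : g ∈ Subgroup.centralizer (A : Set G) ↔ Commute g a := by
  rw [Subgroup.mem_centralizer_iff]
  constructor
  · intro h
    exact (h a haA).symm
  · intro h x hx
    obtain ⟨l, rfl⟩ := ha x hx
    exact ((h.pow_right l).eq).symm

theorem pow_mem_C_iff (hp2 : p ≠ 2) (hG : IsPGroup p G) (A : Subgroup G) [A.Normal] [IsCyclic A]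
    {a : G} (haA : a ∈ A) (ha : ∀ x ∈ A, ∃ l : ℕ, x = a ^ l) (g : G) (l : ℕ) :
    g ^ l ∈ Subgroup.centralizer (A : Set G) ↔ cb a g ^ l = 1 := by
  rw [mem_C_iff A haA ha, comm_pow_iff hp2 hG A g haA l, ← cb_pow A haA g l, cb_eq_one_iff]
  exact ⟨fun h => h.symm, fun h => h.symm⟩

theorem A_le_C (A : Subgroup G) [IsCyclic A] : A ≤ Subgroup.centralizer (A : Set G) := by
  intro x hx
  rw [Subgroup.mem_centralizer_iff]
  intro y hy
  exact comm_of_mem A hy hx

theorem cb_cov {x b : G} (i : ℕ) : cb (x * b ^ i) b = cb x b := by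
  unfold cb
  have h : b ^ i * b = b * b ^ i := ((Commute.refl b).pow_left i).eq
  calc x * b ^ i * b * (x * b ^ i)⁻¹ * b⁻¹ = x * (b ^ i * b) * (b ^ i)⁻¹ * x⁻¹ * b⁻¹ := by group
    _ = x * b * x⁻¹ * b⁻¹ := by
      rw [h]
      group

theorem pow_b_mem_C (A : Subgroup G) [IsCyclic A] {b : G} {x : G} (hx : x ∈ A) (i : ℕ) :
    x * b ^ i ∈ Subgroup.centralizer (A : Set G) ↔ b ^ i ∈ Subgroup.centralizer (A : Set G) := by
  constructor
  · intro h
    have := (Subgroup.centralizer (A : Set G)).mul_mem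
      ((Subgroup.centralizer (A : Set G)).inv_mem (A_le_C A hx)) h
    rwa [inv_mul_cancel_left] at this
  · intro h
    exact (Subgroup.centralizer (A : Set G)).mul_mem (A_le_C A hx) h

theorem C_comm (A : Subgroup G) [IsCyclic A] {b : G} (hb : Cov A b) {x y : G}
    (hx : x ∈ Subgroup.centralizer (A : Set G)) (hy : y ∈ Subgroup.centralizer (A : Set G)) :
    x * y = y * x := by
  obtain ⟨x₁, hx₁, i, rfl⟩ := hb x
  obtain ⟨y₁, hy₁, j, rfl⟩ := hb y
  have hbi := (pow_b_mem_C A hx₁ i).mp hx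
  have hbj := (pow_b_mem_C A hy₁ j).mp hy
  have c1 : Commute x₁ y₁ := comm_of_mem A hx₁ hy₁
  have c2 : Commute (b ^ i) y₁ := (Subgroup.mem_centralizer_iff.mp hbi y₁ hy₁).symm
  have c3 : Commute x₁ (b ^ j) := Subgroup.mem_centralizer_iff.mp hbj x₁ hx₁
  have c4 : Commute (b ^ i) (b ^ j) := (Commute.refl b).pow_pow i j
  exact ((c1.mul_right c3).mul_left (c2.mul_right c4)).eq

theorem mem_center_iff' (A : Subgroup G) {b : G} (hb : Cov A b) (z : G) :
    z ∈ Subgroup.center G ↔ z ∈ Subgroup.centralizer (A : Set G) ∧ Commute z b := by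
  constructor
  · intro h
    rw [Subgroup.mem_center_iff] at h
    refine ⟨?_, (h b).symm⟩
    rw [Subgroup.mem_centralizer_iff]
    intro x _
    exact h x
  · rintro ⟨h1, h2⟩
    rw [Subgroup.mem_center_iff]
    intro g
    obtain ⟨x, hx, i, rfl⟩ := hb g
    have c1 : Commute x z := Subgroup.mem_centralizer_iff.mp h1 x hx
    have c2 : Commute (b ^ i) z := (h2.pow_right i).symm
    exact (c1.mul_left c2).eq

theorem commutator_eq (hG : IsPGroup p G) (A : Subgroup G) [hn : A.Normal] [IsCyclic A]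
    {a b : G} (haA : a ∈ A) (ha : ∀ x ∈ A, ∃ l : ℕ, x = a ^ l) (hb : Cov A b) :
    commutator G = Subgroup.zpowers (cb a b) := by
  apply le_antisymm
  · have hK : Subgroup.zpowers (cb a b) ≤ A := by
      rw [Subgroup.zpowers_le]
      exact cb_mem A haA b
    haveI := normal_of_le hG A hK
    rw [commutator_def, Subgroup.commutator_le]
    intro g _ h _
    have hxb : ∀ x ∈ A, Commute (QuotientGroup.mk' (Subgroup.zpowers (cb a b)) x)
        (QuotientGroup.mk' (Subgroup.zpowers (cb a b)) b) := by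
      intro x hx
      obtain ⟨l, rfl⟩ := ha x hx
      have h1 : cb (a ^ l) b ∈ Subgroup.zpowers (cb a b) := by
        rw [cb_pow A haA b l]
        exact Subgroup.pow_mem _ (Subgroup.mem_zpowers _) l
      have h2 : QuotientGroup.mk' (Subgroup.zpowers (cb a b))
          (a ^ l * b * (a ^ l)⁻¹ * b⁻¹) = 1 :=
        (QuotientGroup.eq_one_iff _).mpr h1
      rw [map_mul, map_mul, map_mul, map_inv, map_inv] at h2
      have h3 := mul_inv_eq_one.mp h2
      have h4 := mul_inv_eq_iff_eq_mul.mp h3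
      exact h4
    obtain ⟨x, hx, i, rfl⟩ := hb g
    obtain ⟨y, hy, j, rfl⟩ := hb h
    have c1 : Commute (QuotientGroup.mk' (Subgroup.zpowers (cb a b)) x)
        (QuotientGroup.mk' (Subgroup.zpowers (cb a b)) y) := by
      have := comm_of_mem A hx hy
      show _ * _ = _ * _
      rw [← map_mul, ← map_mul, this]
    have key : Commute (QuotientGroup.mk' (Subgroup.zpowers (cb a b)) (x * b ^ i))
        (QuotientGroup.mk' (Subgroup.zpowers (cb a b)) (y * b ^ j)) := by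
      rw [map_mul, map_mul, map_pow, map_pow]
      exact (c1.mul_right ((hxb x hx).pow_right j)).mul_left
        (((hxb y hy).pow_right i).symm.mul_right ((Commute.refl _).pow_pow i j))
    have h5 : QuotientGroup.mk' (Subgroup.zpowers (cb a b)) ⁅x * b ^ i, y * b ^ j⁆ = 1 := by
      rw [map_commutatorElement]
      exact commutatorElement_eq_one_iff_commute.mpr key
    exact (QuotientGroup.eq_one_iff _).mp h5
  · rw [Subgroup.zpowers_le, commutator_def]
    have : cb a b = ⁅a, b⁆ := by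
      unfold cb
      rw [commutatorElement_def]
    rw [this]
    exact Subgroup.commutator_mem_commutator (Subgroup.mem_top a) (Subgroup.mem_top b)

theorem index_C (hp2 : p ≠ 2) (hG : IsPGroup p G) (A : Subgroup G) [hn : A.Normal] [IsCyclic A]
    {a b : G} (haA : a ∈ A) (ha : ∀ x ∈ A, ∃ l : ℕ, x = a ^ l) (hb : Cov A b) :
    (Subgroup.centralizer (A : Set G)).index = orderOf (cb a b) := by
  have h1 : ∀ q : G ⧸ Subgroup.centralizer (A : Set G),
      q ∈ Subgroup.zpowers (QuotientGroup.mk' (Subgroup.centralizer (A : Set G)) b) := by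
    intro q
    obtain ⟨g, rfl⟩ := QuotientGroup.mk_surjective q
    obtain ⟨x, hx, i, rfl⟩ := hb g
    have h2 : QuotientGroup.mk' (Subgroup.centralizer (A : Set G)) x = 1 :=
      (QuotientGroup.eq_one_iff _).mpr (A_le_C A hx)
    have h3 : ((x * b ^ i : G) : G ⧸ Subgroup.centralizer (A : Set G)) =
        QuotientGroup.mk' (Subgroup.centralizer (A : Set G)) b ^ i := by
      show QuotientGroup.mk' (Subgroup.centralizer (A : Set G)) (x * b ^ i) = _
      rw [map_mul, map_pow, h2, one_mul]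
    rw [h3]
    exact Subgroup.pow_mem _ (Subgroup.mem_zpowers _) i
  have h4 := orderOf_eq_card_of_forall_mem_zpowers h1
  rw [Subgroup.index_eq_card, ← h4]
  apply orderOf_eq_orderOf_iff.mpr
  intro l
  rw [← map_pow, QuotientGroup.mk'_apply, QuotientGroup.eq_one_iff,
    pow_mem_C_iff hp2 hG A haA ha b l]

theorem card_C (hp2 : p ≠ 2) (hG : IsPGroup p G) (A : Subgroup G) [hn : A.Normal] [IsCyclic A]
    {a b : G} (haA : a ∈ A) (ha : ∀ x ∈ A, ∃ l : ℕ, x = a ^ l) (hb : Cov A b) :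
    Nat.card ↥(Subgroup.centralizer (A : Set G)) =
      Nat.card ↥(Subgroup.center G) * orderOf (cb a b) := by
  have hcb : ∀ x : G, ∃ l : ℕ, cb x b = cb a b ^ l := by
    intro x
    obtain ⟨x₁, hx₁, i, rfl⟩ := hb x
    obtain ⟨l, rfl⟩ := ha x₁ hx₁
    exact ⟨l, by rw [cb_cov, cb_pow A haA b l]⟩
  have hcbA : ∀ x : G, cb x b ∈ A := by
    intro x
    obtain ⟨l, hl⟩ := hcb x
    rw [hl]
    exact A.pow_mem (cb_mem A haA b) l
  let ψ : ↥(Subgroup.centralizer (A : Set G)) →* G :=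
    MonoidHom.mk' (fun x => cb (x : G) b) (by
      intro x y
      have h1 : cb ((x : G) * (y : G)) b = (x : G) * cb (y : G) b * (x : G)⁻¹ * cb (x : G) b := by
        unfold cb
        group
      have h2 : (x : G) * cb (y : G) b * (x : G)⁻¹ = cb (y : G) b := by
        have := Subgroup.mem_centralizer_iff.mp x.2 _ (hcbA (y : G))
        rw [← this, mul_inv_cancel_right]
      show cb ((x : G) * (y : G)) b = cb (x : G) b * cb (y : G) b
      rw [h1, h2, comm_of_mem A (hcbA _) (hcbA _)])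
  have hker : ψ.ker = (Subgroup.center G).subgroupOf (Subgroup.centralizer (A : Set G)) := by
    ext x
    rw [MonoidHom.mem_ker, Subgroup.mem_subgroupOf, mem_center_iff' A hb]
    show cb (x : G) b = 1 ↔ _
    rw [cb_eq_one_iff]
    exact ⟨fun h => ⟨x.2, h⟩, fun h => h.2⟩
  have hrange : ψ.range = Subgroup.zpowers (cb a b) := by
    apply le_antisymm
    · rintro _ ⟨x, rfl⟩
      obtain ⟨l, hl⟩ := hcb (x : G)
      show cb (x : G) b ∈ _
      rw [hl]
      exact Subgroup.pow_mem _ (Subgroup.mem_zpowers _) l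
    · rw [Subgroup.zpowers_le]
      exact ⟨⟨a, A_le_C A haA⟩, rfl⟩
  have hle : Subgroup.center G ≤ Subgroup.centralizer (A : Set G) := by
    intro z hz
    exact ((mem_center_iff' A hb z).mp hz).1
  have h1 := Subgroup.card_mul_index ψ.ker
  rw [Subgroup.index_ker, hrange, Nat.card_zpowers, hker,
    Nat.card_congr (Subgroup.subgroupOfEquivOfLe hle).toEquiv] at h1
  exact h1.symm

theorem index_center (hp2 : p ≠ 2) (hG : IsPGroup p G) (A : Subgroup G) [hn : A.Normal]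
    [IsCyclic A] {a b : G} (haA : a ∈ A) (ha : ∀ x ∈ A, ∃ l : ℕ, x = a ^ l) (hb : Cov A b) :
    (Subgroup.center G).index = orderOf (cb a b) ^ 2 := by
  have h1 := card_C hp2 hG A haA ha hb
  have h2 := index_C hp2 hG A haA ha hb
  have h3 := Subgroup.card_mul_index (Subgroup.centralizer (A : Set G))
  have h4 := Subgroup.card_mul_index (Subgroup.center G)
  rw [h1, h2, ← h4, mul_assoc] at h3
  have h5 : 0 < Nat.card ↥(Subgroup.center G) := Nat.card_pos
  have h6 := Nat.eq_of_mul_eq_mul_left h5 h3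
  rw [← h6, sq]

theorem card_commutator (hG : IsPGroup p G) (A : Subgroup G) [hn : A.Normal] [IsCyclic A]
    {a b : G} (haA : a ∈ A) (ha : ∀ x ∈ A, ∃ l : ℕ, x = a ^ l) (hb : Cov A b) :
    Nat.card ↥(commutator G) = orderOf (cb a b) := by
  rw [commutator_eq hG A haA ha hb, Nat.card_zpowers]

end data

end Cfsg.Agent.Lib.Helper20.Metacyc
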