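import Mathlib
import Cfsg.Agent.Lib.Helper20.Metacyc

set_option autoImplicit false

namespace Cfsg.Agent.Lib.Helper20.Metacyc

section power

variable {G : Type*} [Group G] [Finite G] {p : ℕ} [Fact p.Prime]

theorem sum_rho_dvd {ρ : ℕ} (hρ : ρ % p = 1) : p ∣ ∑ l ∈ Finset.range p, ρ ^ l := by
  rw [← ZMod.natCast_eq_zero_iff]
  have h1 : (ρ : ZMod p) = 1 := by
    have : ((ρ : ℕ) : ZMod p) = ((1 : ℕ) : ZMod p) := by
      rw [ZMod.natCast_eq_natCast_iff', hρ, Nat.mod_eq_of_lt (Fact.out : p.Prime).one_lt]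
    simpa using this
  push_cast
  rw [h1]
  simp

theorem mul_pow_rho (A : Subgroup G) {β : G} {ρ : ℕ} (hc : ∀ x ∈ A, β * x * β⁻¹ = x ^ ρ)
    {α : G} (hα : α ∈ A) (N : ℕ) :
    (α * β) ^ N = α ^ (∑ l ∈ Finset.range N, ρ ^ l) * β ^ N := by
  induction N with
  | zero => simp
  | succ N ih =>
    have h1 := conj_pow_rho A hc N α hα
    rw [pow_succ, ih, Finset.sum_range_succ, pow_add, ← h1, pow_succ]
    group

theorem pow_struct (hG : IsPGroup p G) (A : Subgroup G) [hn : A.Normal] [IsCyclic A] {b : G}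
    (hb : Cov A b) (s : ℕ) (x : G) :
    ∃ u ∈ A, ∃ j : ℕ, x ^ p ^ s = u ^ p ^ s * b ^ (p ^ s * j) := by
  induction s with
  | zero =>
    obtain ⟨u, hu, i, rfl⟩ := hb x
    exact ⟨u, hu, i, by simp⟩
  | succ s ih =>
    obtain ⟨u, hu, j, h⟩ := ih
    obtain ⟨ρ, hρ, hc⟩ := exists_rho hG A (b ^ (p ^ s * j))
    obtain ⟨k, hk⟩ := sum_rho_dvd hρ
    refine ⟨u ^ k, A.pow_mem hu k, j, ?_⟩
    rw [pow_succ, pow_mul, h, mul_pow_rho A hc (A.pow_mem hu _) p, hk, ← pow_mul, ← pow_mul,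
      ← pow_mul]
    congr 2 <;> ring

theorem pow_mem_center (hp2 : p ≠ 2) (hG : IsPGroup p G) (A : Subgroup G) [hn : A.Normal]
    [IsCyclic A] {a b : G} (haA : a ∈ A) (ha : ∀ x ∈ A, ∃ l : ℕ, x = a ^ l) (hb : Cov A b)
    {s : ℕ} (hd : cb a b ^ p ^ s = 1) (y : G) : y ^ p ^ s ∈ Subgroup.center G := by
  obtain ⟨u, hu, j, h⟩ := pow_struct hG A hb s y
  rw [h]
  apply Subgroup.mul_mem
  · rw [mem_center_iff' A hb]
    refine ⟨A_le_C A (A.pow_mem hu _), ?_⟩
    rw [← cb_eq_one_iff, cb_pow A hu b]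
    obtain ⟨c, rfl⟩ := ha u hu
    rw [cb_pow A haA b c, ← pow_mul, mul_comm, pow_mul, hd, one_pow]
  · rw [mem_center_iff' A hb]
    refine ⟨?_, (Commute.refl b).pow_left _⟩
    rw [pow_mul]
    exact Subgroup.pow_mem _ ((pow_mem_C_iff hp2 hG A haA ha b (p ^ s)).mpr hd) j

theorem pow_mem_of_index_le (hG : IsPGroup p G) (H : Subgroup G) {e : ℕ} (hH : H.index ≤ p ^ e)
    (x : G) : x ^ p ^ e ∈ H := by
  have hp : p.Prime := Fact.out
  have h1 : H.relIndex (Subgroup.zpowers x) ≤ H.index := by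
    have e1 := Subgroup.relIndex_mul_index (inf_le_right : H ⊓ Subgroup.zpowers x ≤ Subgroup.zpowers x)
    have e2 : (H ⊓ Subgroup.zpowers x).index ≤ H.index * (Subgroup.zpowers x).index :=
      Subgroup.index_inf_le
    rw [Subgroup.inf_relIndex_right] at e1
    rw [← e1] at e2
    exact Nat.le_of_mul_le_mul_right e2 (Nat.pos_of_ne_zero Subgroup.index_ne_zero_of_finite)
  have h2 : H.relIndex (Subgroup.zpowers x) ∣ orderOf x := by
    have := Subgroup.relIndex_dvd_card H (Subgroup.zpowers x)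
    rwa [Nat.card_zpowers] at this
  obtain ⟨t, ht⟩ := exists_orderOf_eq_prime_pow_iff.mpr (hG x)
  rw [ht] at h2
  obtain ⟨f, -, hf⟩ := (Nat.dvd_prime_pow hp).mp h2
  have hfe : f ≤ e := by
    have : p ^ f ≤ p ^ e := by
      rw [← hf]
      exact h1.trans hH
    exact (Nat.pow_le_pow_iff_right hp.one_lt).mp this
  have hsn : (H.subgroupOf (Subgroup.zpowers x)).Normal := ⟨fun n hn g => by
    have hc : g * n = n * g := by
      obtain ⟨i, hi⟩ := Subgroup.mem_zpowers_iff.mp g.2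
      obtain ⟨j, hj⟩ := Subgroup.mem_zpowers_iff.mp n.2
      apply Subtype.ext
      simp only [Subgroup.coe_mul]
      rw [← hi, ← hj]
      exact ((Commute.refl x).zpow_zpow i j).eq
    rw [hc, mul_inv_cancel_right]
    exact hn⟩
  have h3 := Subgroup.pow_index_mem (H.subgroupOf (Subgroup.zpowers x))
    (⟨x, Subgroup.mem_zpowers x⟩ : Subgroup.zpowers x)
  rw [Subgroup.mem_subgroupOf] at h3
  have h4 : x ^ H.relIndex (Subgroup.zpowers x) ∈ H := by
    simpa [Subgroup.relIndex] using h3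
  rw [hf] at h4
  have h5 : p ^ e = p ^ f * p ^ (e - f) := by
    rw [← pow_add, Nat.add_sub_cancel' hfe]
  rw [h5, pow_mul]
  exact H.pow_mem h4 _

theorem index_centralizer_eq_ncard' (g : G) :
    (Subgroup.centralizer ({g} : Set G)).index = Set.ncard {h : G | IsConj g h} := by
  have h1 := MulAction.index_stabilizer (ConjAct G) g
  rw [ConjAct.stabilizer_eq_centralizer] at h1
  have h2 : MulAction.orbit (ConjAct G) g = {h : G | IsConj g h} := by
    ext h
    rw [ConjAct.mem_orbit_conjAct, isConj_comm]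
    rfl
  rw [h2] at h1
  exact h1

theorem index_centralizer_le (D : Subgroup G) {g : G} (h : ∀ z : G, cb z g ∈ D) :
    (Subgroup.centralizer ({g} : Set G)).index ≤ Nat.card D := by
  rw [index_centralizer_eq_ncard']
  have h1 : {h : G | IsConj g h} ⊆ (fun d => d * g) '' (D : Set G) := by
    intro k hk
    obtain ⟨c, hc⟩ := isConj_iff.mp hk
    refine ⟨cb c g, h c, ?_⟩
    show cb c g * g = k
    rw [← hc]
    unfold cb
    group
  have h2 := Set.ncard_le_ncard h1 (Set.toFinite _)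
  have h3 := Set.ncard_image_le (f := fun d => d * g) (s := (D : Set G)) (Set.toFinite _)
  have h4 : (D : Set G).ncard = Nat.card D := (Nat.card_coe_set_eq (D : Set G)).symm
  omega

theorem pow_mem_C_cov (hp2 : p ≠ 2) (hG : IsPGroup p G) (A : Subgroup G) [hn : A.Normal]
    [IsCyclic A] {a b : G} (haA : a ∈ A) (ha : ∀ x ∈ A, ∃ l : ℕ, x = a ^ l) {x : G} (hx : x ∈ A)
    (i L : ℕ) :
    (x * b ^ i) ^ L ∈ Subgroup.centralizer (A : Set G) ↔ cb a b ^ (i * L) = 1 := by
  rw [← pow_mem_C_iff hp2 hG A haA ha b (i * L)]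
  have h2 : QuotientGroup.mk' (Subgroup.centralizer (A : Set G)) x = 1 :=
    (QuotientGroup.eq_one_iff _).mpr (A_le_C A hx)
  have h3 : QuotientGroup.mk' (Subgroup.centralizer (A : Set G)) ((x * b ^ i) ^ L) =
      QuotientGroup.mk' (Subgroup.centralizer (A : Set G)) (b ^ (i * L)) := by
    rw [map_pow, map_mul, h2, one_mul, ← map_pow, ← pow_mul]
  rw [← QuotientGroup.eq_one_iff, ← QuotientGroup.eq_one_iff]
  show QuotientGroup.mk' (Subgroup.centralizer (A : Set G)) ((x * b ^ i) ^ L) = 1 ↔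
    QuotientGroup.mk' (Subgroup.centralizer (A : Set G)) (b ^ (i * L)) = 1
  rw [h3]

theorem cb_mem_of_mem_pow_closure (hp2 : p ≠ 2) (hG : IsPGroup p G) (A : Subgroup G)
    [hn : A.Normal] [hA : IsCyclic A] {a b : G} (haA : a ∈ A) (ha : ∀ x ∈ A, ∃ l : ℕ, x = a ^ l)
    (hb : Cov A b) (s : ℕ) {g : G}
    (hg : g ∈ Subgroup.closure {x : G | ∃ y : G, y ^ p ^ s = x}) (z : G) :
    cb z g ∈ Subgroup.zpowers (cb a b ^ p ^ s) := by
  have hD : Subgroup.zpowers (cb a b ^ p ^ s) ≤ A := by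
    rw [Subgroup.zpowers_le]
    exact A.pow_mem (cb_mem A haA b) _
  have hDn := normal_of_le hG A hD
  set f := QuotientGroup.mk' (Subgroup.zpowers (cb a b ^ p ^ s)) with hf
  have hfs : Function.Surjective f := QuotientGroup.mk'_surjective _
  have hAfn : (A.map f).Normal := hn.map f hfs
  haveI : IsCyclic ↥(A.map f) :=
    isCyclic_of_surjective (f.subgroupMap A) (f.subgroupMap_surjective A)
  have hG' : IsPGroup p (G ⧸ Subgroup.zpowers (cb a b ^ p ^ s)) := hG.to_quotient _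
  have haA' : f a ∈ A.map f := Subgroup.mem_map_of_mem f haA
  have ha' : ∀ x ∈ A.map f, ∃ l : ℕ, x = f a ^ l := by
    rintro _ ⟨x, hx, rfl⟩
    obtain ⟨l, rfl⟩ := ha x hx
    exact ⟨l, map_pow f a l⟩
  have hb' : Cov (A.map f) (f b) := by
    intro q
    obtain ⟨g, rfl⟩ := hfs q
    obtain ⟨x, hx, i, rfl⟩ := hb g
    exact ⟨f x, Subgroup.mem_map_of_mem f hx, i, by rw [map_mul, map_pow]⟩
  have hcbf : ∀ u v : G, cb (f u) (f v) = f (cb u v) := by
    intro u v
    show f u * f v * (f u)⁻¹ * (f v)⁻¹ = f (u * v * u⁻¹ * v⁻¹)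
    rw [map_mul, map_mul, map_mul, map_inv, map_inv]
  have hd : cb (f a) (f b) ^ p ^ s = 1 := by
    rw [hcbf, ← map_pow]
    exact (QuotientGroup.eq_one_iff _).mpr (Subgroup.mem_zpowers _)
  have hT : Subgroup.closure {x : G | ∃ y : G, y ^ p ^ s = x} ≤
      (Subgroup.center (G ⧸ Subgroup.zpowers (cb a b ^ p ^ s))).comap f := by
    rw [Subgroup.closure_le]
    rintro _ ⟨y, rfl⟩
    show f (y ^ p ^ s) ∈ Subgroup.center _
    rw [map_pow]
    exact pow_mem_center hp2 hG' (A.map f) haA' ha' hb' hd (f y)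
  have h1 : f g ∈ Subgroup.center (G ⧸ Subgroup.zpowers (cb a b ^ p ^ s)) := hT hg
  have h2 : f (cb z g) = 1 := by
    rw [← hcbf, cb_eq_one_iff]
    exact (Subgroup.mem_center_iff.mp h1 (f z))
  exact (QuotientGroup.eq_one_iff _).mp h2

theorem mem_pow_closure_iff (hp2 : p ≠ 2) (hG : IsPGroup p G) (A : Subgroup G)
    [hn : A.Normal] [hA : IsCyclic A] {a b : G} (haA : a ∈ A) (ha : ∀ x ∈ A, ∃ l : ℕ, x = a ^ l)
    (hb : Cov A b) {n : ℕ} (hdn : orderOf (cb a b) = p ^ n) {s : ℕ} (hs : s ≤ n) (g : G) :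
    g ∈ Subgroup.closure {x : G | ∃ y : G, y ^ p ^ s = x} ↔
      (Subgroup.centralizer ({g} : Set G)).index ≤ p ^ (n - s) := by
  have hp : p.Prime := Fact.out
  constructor
  · intro hg
    have h1 := index_centralizer_le (Subgroup.zpowers (cb a b ^ p ^ s))
      (fun z => cb_mem_of_mem_pow_closure hp2 hG A haA ha hb s hg z)
    rw [Nat.card_zpowers, orderOf_pow' _ (pow_pos hp.pos s).ne', hdn,
      Nat.gcd_eq_right (pow_dvd_pow p hs), Nat.pow_div hs hp.pos] at h1
    exact h1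
  · intro hidx
    have hcen : ∀ y : G, Commute g (y ^ p ^ (n - s)) := by
      intro y
      have := pow_mem_of_index_le hG _ hidx y
      exact Subgroup.mem_centralizer_iff.mp this g rfl
    have hpn : p ^ n = p ^ s * p ^ (n - s) := by
      rw [← pow_add, Nat.add_sub_cancel' hs]
    have hdvd : ∀ c : ℕ, cb a b ^ (c * p ^ (n - s)) = 1 → p ^ s ∣ c := by
      intro c hc
      have := orderOf_dvd_of_pow_eq_one hc
      rw [hdn, hpn] at this
      exact (Nat.mul_dvd_mul_iff_right (pow_pos hp.pos _)).mp this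
    obtain ⟨x, hx, i, rfl⟩ := hb g
    have h1 : Commute ((x * b ^ i) ^ p ^ (n - s)) a :=
      (comm_pow_iff hp2 hG A (x * b ^ i) haA (p ^ (n - s))).mpr (hcen a)
    have h2 : (x * b ^ i) ^ p ^ (n - s) ∈ Subgroup.centralizer (A : Set G) :=
      (mem_C_iff A haA ha _).mpr h1
    have h3 := (pow_mem_C_cov hp2 hG A haA ha hx i (p ^ (n - s))).mp h2
    obtain ⟨i', rfl⟩ := hdvd i h3
    have hbi : b ^ (p ^ s * i') ∈ Subgroup.closure {x : G | ∃ y : G, y ^ p ^ s = x} := by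
      apply Subgroup.subset_closure
      exact ⟨b ^ i', by rw [← pow_mul, mul_comm]⟩
    have h4 : Commute x (b ^ p ^ (n - s)) := by
      have e1 : x = x * b ^ (p ^ s * i') * (b ^ (p ^ s * i'))⁻¹ := by group
      rw [e1]
      exact (hcen b).mul_left (((Commute.refl b).pow_pow _ _).inv_left)
    have h5 : Commute b (x ^ p ^ (n - s)) :=
      (comm_pow_iff hp2 hG A b hx (p ^ (n - s))).mp h4.symm
    have h6 : cb (x ^ p ^ (n - s)) b = 1 := (cb_eq_one_iff _ _).mpr h5.symm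
    obtain ⟨c, rfl⟩ := ha x hx
    rw [cb_pow A (A.pow_mem haA c) b, cb_pow A haA b c, ← pow_mul] at h6
    obtain ⟨c', rfl⟩ := hdvd c h6
    have hxc : a ^ (p ^ s * c') ∈ Subgroup.closure {x : G | ∃ y : G, y ^ p ^ s = x} := by
      apply Subgroup.subset_closure
      exact ⟨a ^ c', by rw [← pow_mul, mul_comm]⟩
    exact Subgroup.mul_mem _ hxc hbi

theorem pow_closure_eq_center (hp2 : p ≠ 2) (hG : IsPGroup p G) (A : Subgroup G)
    [hn : A.Normal] [hA : IsCyclic A] {a b : G} (haA : a ∈ A) (ha : ∀ x ∈ A, ∃ l : ℕ, x = a ^ l)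
    (hb : Cov A b) {n : ℕ} (hdn : orderOf (cb a b) = p ^ n) :
    Subgroup.closure {x : G | ∃ y : G, y ^ p ^ n = x} = Subgroup.center G := by
  ext g
  rw [mem_pow_closure_iff hp2 hG A haA ha hb hdn le_rfl g, Nat.sub_self, pow_zero]
  have h0 : (Subgroup.centralizer ({g} : Set G)).index ≠ 0 := Subgroup.index_ne_zero_of_finite
  have h1 : (Subgroup.centralizer ({g} : Set G)).index ≤ 1 ↔
      (Subgroup.centralizer ({g} : Set G)).index = 1 := by omega
  rw [h1, Subgroup.index_eq_one, Subgroup.centralizer_eq_top_iff_subset, Set.singleton_subset_iff]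
  rfl

end power

end Cfsg.Agent.Lib.Helper20.Metacyc
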