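import Mathlib
import Cfsg.Agent.Lib.Helper20.Metacyc
import Cfsg.Agent.Lib.Helper20.Metacyc2

set_option autoImplicit false

namespace Cfsg.Agent.Lib.Helper20.Metacyc

open scoped commutatorElement Pointwise

section abel

variable {G : Type*} [Group G] [Finite G] {p : ℕ} [Fact p.Prime]

theorem isMulComm_iff (L : Subgroup G) :
    IsMulCommutative ↥L ↔ ∀ x ∈ L, ∀ y ∈ L, x * y = y * x := by
  constructor
  · intro h x hx y hy
    have := h.is_comm.comm (⟨x, hx⟩ : L) ⟨y, hy⟩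
    exact congrArg Subtype.val this
  · intro h
    exact ⟨⟨fun x y => Subtype.ext (h x x.2 y y.2)⟩⟩

theorem normal_of_ge (hG : IsPGroup p G) (A : Subgroup G) [hn : A.Normal] [IsCyclic A] {b : G}
    (hb : Cov A b) {X : Subgroup G} (hAX : A ≤ X) : X.Normal := by
  obtain ⟨a, haA, ha⟩ := exists_gen A
  constructor
  intro x hx g
  have h1 : g * x * g⁻¹ = ⁅g, x⁆ * x := by
    rw [commutatorElement_def]
    group
  have h2 : ⁅g, x⁆ ∈ commutator G := by
    rw [commutator_def]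
    exact Subgroup.commutator_mem_commutator (Subgroup.mem_top g) (Subgroup.mem_top x)
  rw [commutator_eq hG A haA ha hb] at h2
  have h3 : Subgroup.zpowers (cb a b) ≤ A := by
    rw [Subgroup.zpowers_le]
    exact cb_mem A haA b
  rw [h1]
  exact X.mul_mem (hAX (h3 h2)) hx

theorem level (hG : IsPGroup p G) (A : Subgroup G) [hn : A.Normal] [IsCyclic A] {b : G}
    (hb : Cov A b) (X : Subgroup G) (hAX : A ≤ X) :
    ∃ j : ℕ, X.index = p ^ j ∧ ∀ e : ℕ, b ^ e ∈ X ↔ p ^ j ∣ e := by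
  have hXn := normal_of_ge hG A hb hAX
  have h1 : ∀ q : G ⧸ X, q ∈ Subgroup.zpowers (QuotientGroup.mk' X b) := by
    intro q
    obtain ⟨g, rfl⟩ := QuotientGroup.mk_surjective q
    obtain ⟨x, hx, i, rfl⟩ := hb g
    have h2 : QuotientGroup.mk' X x = 1 := (QuotientGroup.eq_one_iff _).mpr (hAX hx)
    have h3 : ((x * b ^ i : G) : G ⧸ X) = QuotientGroup.mk' X b ^ i := by
      show QuotientGroup.mk' X (x * b ^ i) = _
      rw [map_mul, map_pow, h2, one_mul]
    rw [h3]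
    exact Subgroup.pow_mem _ (Subgroup.mem_zpowers _) i
  have h4 := orderOf_eq_card_of_forall_mem_zpowers h1
  obtain ⟨j, hj⟩ := hG.index X
  refine ⟨j, hj, fun e => ?_⟩
  rw [← hj, Subgroup.index_eq_card, ← h4, orderOf_dvd_iff_pow_eq_one, ← map_pow,
    QuotientGroup.mk'_apply, QuotientGroup.eq_one_iff]

theorem level_A (hG : IsPGroup p G) (A : Subgroup G) [hA : IsCyclic A] {a : G} (haA : a ∈ A)
    (ha : ∀ x ∈ A, ∃ l : ℕ, x = a ^ l) (D : Subgroup G) :
    ∃ i : ℕ, D.relIndex A = p ^ i ∧ ∀ e : ℕ, a ^ e ∈ D ↔ p ^ i ∣ e := by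
  have hcov : Cov (⊥ : Subgroup ↥A) (⟨a, haA⟩ : ↥A) := by
    intro g
    obtain ⟨l, hl⟩ := ha g.1 g.2
    exact ⟨1, Subgroup.mem_bot.mpr rfl, l, by
      apply Subtype.ext
      simp [hl]⟩
  obtain ⟨i, hi, hl⟩ := level (hG.to_subgroup A) (⊥ : Subgroup ↥A) hcov (D.subgroupOf A) bot_le
  refine ⟨i, hi, fun e => ?_⟩
  rw [← hl e, Subgroup.mem_subgroupOf]
  simp

theorem mul_pow_mem (A : Subgroup G) [hn : A.Normal] {x : G} (hx : x ∈ A) (β : G) (N : ℕ) :
    ∃ x' ∈ A, (x * β) ^ N = x' * β ^ N := by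
  induction N with
  | zero => exact ⟨1, A.one_mem, by simp⟩
  | succ N ih =>
    obtain ⟨x', hx', h⟩ := ih
    refine ⟨x' * (β ^ N * x * (β ^ N)⁻¹), A.mul_mem hx' (hn.conj_mem x hx _), ?_⟩
    rw [pow_succ, h, pow_succ]
    group

theorem exists_l1 (A : Subgroup G) [hn : A.Normal] {b : G} (hb : Cov A b) (L : Subgroup G)
    {j : ℕ} (hlev : ∀ e : ℕ, b ^ e ∈ L ⊔ A ↔ p ^ j ∣ e) :
    ∃ l₁ ∈ L, ∃ x₁ ∈ A, l₁ = x₁ * b ^ p ^ j ∧
      ∀ l ∈ L, ∃ δ ∈ L ⊓ A, ∃ e : ℕ, l = δ * l₁ ^ e := by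
  have hbH : b ^ p ^ j ∈ L ⊔ A := (hlev (p ^ j)).mpr dvd_rfl
  rw [← SetLike.mem_coe, Subgroup.mul_normal] at hbH
  obtain ⟨l₁, hl₁, x, hx, h⟩ := Set.mem_mul.mp hbH
  have hl₁' : l₁ = b ^ p ^ j * x⁻¹ * (b ^ p ^ j)⁻¹ * b ^ p ^ j := by
    rw [← h]
    group
  refine ⟨l₁, hl₁, b ^ p ^ j * x⁻¹ * (b ^ p ^ j)⁻¹, hn.conj_mem _ (A.inv_mem hx) _, hl₁', ?_⟩
  intro l hl
  obtain ⟨y, hy, e, rfl⟩ := hb l
  have hbe : b ^ e ∈ L ⊔ A := by
    have e1 : b ^ e = y⁻¹ * (y * b ^ e) := by group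
    rw [e1]
    exact Subgroup.mul_mem _ ((le_sup_right : A ≤ L ⊔ A) (A.inv_mem hy))
      ((le_sup_left : L ≤ L ⊔ A) hl)
  obtain ⟨e', rfl⟩ := (hlev e).mp hbe
  obtain ⟨x', hx', hpow⟩ := mul_pow_mem A (hn.conj_mem _ (A.inv_mem hx) (b ^ p ^ j)) (b ^ p ^ j) e'
  rw [← hl₁', ← pow_mul] at hpow
  refine ⟨y * b ^ (p ^ j * e') * (l₁ ^ e')⁻¹, Subgroup.mem_inf.mpr ⟨?_, ?_⟩, e', by group⟩
  · exact L.mul_mem hl (L.inv_mem (L.pow_mem hl₁ e'))
  · have e2 : y * b ^ (p ^ j * e') * (l₁ ^ e')⁻¹ = y * x'⁻¹ := by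
      rw [hpow]
      group
    rw [e2]
    exact A.mul_mem hy (A.inv_mem hx')

theorem abelian_iff (hp2 : p ≠ 2) (hG : IsPGroup p G) (A : Subgroup G) [hn : A.Normal]
    [hA : IsCyclic A] {a b : G} (haA : a ∈ A) (ha : ∀ x ∈ A, ∃ l : ℕ, x = a ^ l) {n : ℕ}
    (hdn : orderOf (cb a b) = p ^ n) (L : Subgroup G) {i j : ℕ}
    (hi : ∀ e : ℕ, a ^ e ∈ L ⊓ A ↔ p ^ i ∣ e)
    {l₁ x₁ : G} (hl₁ : l₁ ∈ L) (hx₁ : x₁ ∈ A) (hl₁e : l₁ = x₁ * b ^ p ^ j)
    (hL : ∀ l ∈ L, ∃ δ ∈ L ⊓ A, ∃ e : ℕ, l = δ * l₁ ^ e) :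
    IsMulCommutative ↥L ↔ n ≤ i + j := by
  have hp : p.Prime := Fact.out
  have key : Commute l₁ (a ^ p ^ i) ↔ n ≤ i + j := by
    rw [← comm_pow_iff hp2 hG A l₁ haA (p ^ i), ← mem_C_iff A haA ha, hl₁e,
      pow_mem_C_cov hp2 hG A haA ha hx₁ (p ^ j) (p ^ i), ← orderOf_dvd_iff_pow_eq_one, hdn,
      ← pow_add, Nat.pow_dvd_pow_iff_le_right hp.one_lt, add_comm]
  rw [← key, isMulComm_iff]
  constructor
  · intro h
    exact h l₁ hl₁ _ ((hi (p ^ i)).mpr dvd_rfl).1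
  · intro h u hu v hv
    have hδ : ∀ δ ∈ L ⊓ A, Commute l₁ δ := by
      intro δ hδ
      obtain ⟨c, rfl⟩ := ha δ hδ.2
      obtain ⟨c', rfl⟩ := (hi c).mp hδ
      rw [pow_mul]
      exact h.pow_right c'
    obtain ⟨δ, hδ1, e, rfl⟩ := hL u hu
    obtain ⟨δ', hδ2, e', rfl⟩ := hL v hv
    have c1 : Commute δ δ' := comm_of_mem A hδ1.2 hδ2.2
    have c2 : Commute δ (l₁ ^ e') := ((hδ δ hδ1).pow_left e').symm
    have c3 : Commute (l₁ ^ e) δ' := (hδ δ' hδ2).pow_left e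
    have c4 : Commute (l₁ ^ e) (l₁ ^ e') := (Commute.refl l₁).pow_pow e e'
    exact ((c1.mul_right c2).mul_left (c3.mul_right c4)).eq

theorem index_L (A : Subgroup G) [hn : A.Normal] (L : Subgroup G) :
    L.index = (L ⊓ A).relIndex A * (L ⊔ A).index := by
  have h1 := Subgroup.relIndex_mul_index (inf_le_left : L ⊓ A ≤ L)
  have h2 := Subgroup.relIndex_mul_index (le_sup_right : A ≤ L ⊔ A)
  have h3 := Subgroup.relIndex_mul_index (inf_le_right : L ⊓ A ≤ A)
  rw [Subgroup.inf_relIndex_left] at h1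
  rw [Subgroup.relIndex_sup_right] at h2
  have h0 : A.relIndex L ≠ 0 := by
    intro h
    rw [h, zero_mul] at h2
    exact Subgroup.index_ne_zero_of_finite h2.symm
  have h4 : A.relIndex L * L.index = A.relIndex L * ((L ⊓ A).relIndex A * (L ⊔ A).index) := by
    rw [h1, ← h3, ← h2]
    ring
  exact Nat.eq_of_mul_eq_mul_left (Nat.pos_of_ne_zero h0) h4

theorem sup_zpowers_comm (L : Subgroup G) (y : G) (hL : ∀ u ∈ L, ∀ v ∈ L, u * v = v * u)
    (hy : ∀ u ∈ L, u * y = y * u) :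
    ∀ u ∈ L ⊔ Subgroup.zpowers y, ∀ v ∈ L ⊔ Subgroup.zpowers y, u * v = v * u := by
  have h1 : L ⊔ Subgroup.zpowers y = Subgroup.closure ((L : Set G) ∪ {y}) := by
    rw [Subgroup.closure_union, Subgroup.closure_eq, Subgroup.zpowers_eq_closure]
  have h2 : (L : Set G) ∪ {y} ⊆ Subgroup.centralizer ((L : Set G) ∪ {y}) := by
    intro u hu
    rw [SetLike.mem_coe, Subgroup.mem_centralizer_iff]
    intro v hv
    rcases hu with hu | hu <;> rcases hv with hv | hv
    · exact hL v hv u hu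
    · rw [Set.mem_singleton_iff] at hv
      rw [hv]
      exact (hy u hu).symm
    · rw [Set.mem_singleton_iff] at hu
      rw [hu]
      exact hy v hv
    · rw [Set.mem_singleton_iff] at hu hv
      rw [hu, hv]
  have h3 : Subgroup.closure ((L : Set G) ∪ {y}) ≤
      Subgroup.centralizer ((L : Set G) ∪ {y}) := (Subgroup.closure_le _).mpr h2
  have h4 : Subgroup.closure ((L : Set G) ∪ {y}) ≤
      Subgroup.centralizer (Subgroup.centralizer ((L : Set G) ∪ {y}) : Set G) := by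
    rw [Subgroup.closure_le]
    intro u hu
    rw [SetLike.mem_coe, Subgroup.mem_centralizer_iff]
    intro v hv
    exact (Subgroup.mem_centralizer_iff.mp hv u hu).symm
  intro u hu v hv
  rw [h1] at hu hv
  exact Subgroup.mem_centralizer_iff.mp (h4 hv) u (h3 hu)

theorem abelian_card (hp2 : p ≠ 2) (hG : IsPGroup p G) (A : Subgroup G) [hn : A.Normal]
    [hA : IsCyclic A] {a b : G} (haA : a ∈ A) (ha : ∀ x ∈ A, ∃ l : ℕ, x = a ^ l)
    (hb : Cov A b) (L : Subgroup G) :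
    (IsMulCommutative ↥L ↔ Nat.card ↥L ≤ (commutator G).index) ∧
      (Maximal (fun K : Subgroup G => IsMulCommutative ↥K) L ↔
        Nat.card ↥L = (commutator G).index) := by
  have hp : p.Prime := Fact.out
  obtain ⟨n, hdn⟩ := exists_orderOf_eq_prime_pow_iff.mpr (hG (cb a b))
  have hcard : (commutator G).index = Nat.card ↥(Subgroup.centralizer (A : Set G)) := by
    have h1 := Subgroup.card_mul_index (commutator G)
    have h2 := Subgroup.card_mul_index (Subgroup.centralizer (A : Set G))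
    rw [card_commutator hG A haA ha hb] at h1
    rw [index_C hp2 hG A haA ha hb, ← h1, mul_comm] at h2
    exact (Nat.eq_of_mul_eq_mul_left (orderOf_pos _) h2).symm
  have hCidx : (Subgroup.centralizer (A : Set G)).index = p ^ n := by
    rw [index_C hp2 hG A haA ha hb, hdn]
  have hdata : ∀ K : Subgroup G, ∃ i j : ℕ, K.index = p ^ (i + j) ∧
      (IsMulCommutative ↥K ↔ n ≤ i + j) ∧ (∀ e : ℕ, a ^ e ∈ K ⊓ A ↔ p ^ i ∣ e) ∧
      (∀ e : ℕ, b ^ e ∈ K ⊔ A ↔ p ^ j ∣ e) ∧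
      ∃ l₁ ∈ K, ∃ x₁ ∈ A, l₁ = x₁ * b ^ p ^ j := by
    intro K
    obtain ⟨j, hj, hlev⟩ := level hG A hb (K ⊔ A) le_sup_right
    obtain ⟨i, hi, hlevA⟩ := level_A hG A haA ha (K ⊓ A)
    obtain ⟨l₁, hl₁, x₁, hx₁, hl₁e, hK⟩ := exists_l1 A hb K hlev
    refine ⟨i, j, ?_, abelian_iff hp2 hG A haA ha hdn K hlevA hl₁ hx₁ hl₁e hK, hlevA, hlev,
      l₁, hl₁, x₁, hx₁, hl₁e⟩
    rw [index_L A K, hi, hj, pow_add]
  have hcardle : ∀ K : Subgroup G, ∀ i j : ℕ, K.index = p ^ (i + j) →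
      ((Nat.card ↥K ≤ Nat.card ↥(Subgroup.centralizer (A : Set G)) ↔ n ≤ i + j) ∧
      (Nat.card ↥K = Nat.card ↥(Subgroup.centralizer (A : Set G)) ↔ n = i + j)) := by
    intro K i j hK
    have h1 := Subgroup.card_mul_index K
    have h2 := Subgroup.card_mul_index (Subgroup.centralizer (A : Set G))
    rw [hK] at h1
    rw [hCidx] at h2
    have hpos : 0 < Nat.card G := Nat.card_pos
    constructor
    · constructor
      · intro h
        by_contra hlt
        push_neg at hlt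
        have h3 : p ^ (i + j) < p ^ n := Nat.pow_lt_pow_right hp.one_lt hlt
        have h4 : Nat.card ↥K * p ^ (i + j) < Nat.card ↥(Subgroup.centralizer (A : Set G)) * p ^ n :=
          Nat.mul_lt_mul_of_le_of_lt h h3 Nat.card_pos
        omega
      · intro h
        by_contra hlt
        push_neg at hlt
        have h3 : p ^ n ≤ p ^ (i + j) := Nat.pow_le_pow_right hp.pos h
        have h4 : Nat.card ↥(Subgroup.centralizer (A : Set G)) * p ^ n < Nat.card ↥K * p ^ (i + j) :=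
          Nat.mul_lt_mul_of_lt_of_le hlt h3 (pow_pos hp.pos _)
        omega
    · constructor
      · intro h
        rw [h, ← h2] at h1
        have h3 := Nat.eq_of_mul_eq_mul_left Nat.card_pos h1
        exact (Nat.pow_right_injective hp.two_le h3).symm
      · intro h
        rw [← h, ← h2] at h1
        exact Nat.eq_of_mul_eq_mul_right (pow_pos hp.pos _) h1
  obtain ⟨i, j, hLidx, hLab, hlevA, hlev, l₁, hl₁, x₁, hx₁, hl₁e⟩ := hdata L
  have first : ∀ K : Subgroup G, IsMulCommutative ↥K ↔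
      Nat.card ↥K ≤ Nat.card ↥(Subgroup.centralizer (A : Set G)) := by
    intro K
    obtain ⟨i', j', hKidx, hKab, -⟩ := hdata K
    rw [hKab, (hcardle K i' j' hKidx).1]
  rw [hcard]
  refine ⟨first L, ?_⟩
  constructor
  · intro hmax
    rw [(hcardle L i j hLidx).2]
    have hab := hLab.mp hmax.prop
    by_contra hne
    have hlt : n < i + j := lt_of_le_of_ne hab hne
    have hLc := (isMulComm_iff L).mp hmax.prop
    rcases Nat.eq_zero_or_pos i with hi0 | hi0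
    · subst hi0
      have haL : a ∈ L := by
        have := (hlevA 1).mpr (by simp)
        rw [pow_one] at this
        exact this.1
      have hAL : A ≤ L := by
        intro x hx
        obtain ⟨l, rfl⟩ := ha x hx
        exact L.pow_mem haL l
      have hLC : L ≤ Subgroup.centralizer (A : Set G) := by
        intro l hl
        obtain ⟨y, hy, e, rfl⟩ := hb l
        have hbe : b ^ e ∈ L ⊔ A := by
          have e1 : b ^ e = y⁻¹ * (y * b ^ e) := by group
          rw [e1]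
          exact Subgroup.mul_mem _ ((le_sup_right : A ≤ L ⊔ A) (A.inv_mem hy))
            ((le_sup_left : L ≤ L ⊔ A) hl)
        obtain ⟨e', rfl⟩ := (hlev e).mp hbe
        rw [pow_b_mem_C A hy, pow_mul]
        apply Subgroup.pow_mem
        rw [pow_mem_C_iff hp2 hG A haA ha b (p ^ j), ← orderOf_dvd_iff_pow_eq_one, hdn]
        exact pow_dvd_pow p (by omega)
      have hCab : IsMulCommutative ↥(Subgroup.centralizer (A : Set G)) :=
        (isMulComm_iff _).mpr (fun x hx y hy => C_comm A hb hx hy)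
      have hCL := hmax.le_of_ge hCab hLC
      have hbn : b ^ p ^ n ∈ L ⊔ A := by
        apply (le_sup_left : L ≤ L ⊔ A)
        apply hCL
        rw [pow_mem_C_iff hp2 hG A haA ha b (p ^ n), ← hdn]
        exact pow_orderOf_eq_one _
      have := (hlev (p ^ n)).mp hbn
      rw [Nat.pow_dvd_pow_iff_le_right hp.one_lt] at this
      omega
    · have hy : ∀ u ∈ L, u * a ^ p ^ (i - 1) = a ^ p ^ (i - 1) * u := by
        have hcomm : Commute l₁ (a ^ p ^ (i - 1)) := by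
          rw [← comm_pow_iff hp2 hG A l₁ haA (p ^ (i - 1)), ← mem_C_iff A haA ha, hl₁e,
            pow_mem_C_cov hp2 hG A haA ha hx₁ (p ^ j) (p ^ (i - 1)),
            ← orderOf_dvd_iff_pow_eq_one, hdn, ← pow_add]
          exact pow_dvd_pow p (by omega)
        obtain ⟨l₁', hl₁', x₁', hx₁', hl₁e', hLgen⟩ := exists_l1 A hb L hlev
        have hcomm' : Commute l₁' (a ^ p ^ (i - 1)) := by
          rw [← comm_pow_iff hp2 hG A l₁' haA (p ^ (i - 1)), ← mem_C_iff A haA ha, hl₁e',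
            pow_mem_C_cov hp2 hG A haA ha hx₁' (p ^ j) (p ^ (i - 1)),
            ← orderOf_dvd_iff_pow_eq_one, hdn, ← pow_add]
          exact pow_dvd_pow p (by omega)
        intro u hu
        obtain ⟨δ, hδ, e, rfl⟩ := hLgen u hu
        have c1 : Commute δ (a ^ p ^ (i - 1)) := comm_of_mem A hδ.2 (A.pow_mem haA _)
        exact (c1.mul_left (hcomm'.pow_left e)).eq
      have hKab : IsMulCommutative ↥(L ⊔ Subgroup.zpowers (a ^ p ^ (i - 1))) :=
        (isMulComm_iff _).mpr (sup_zpowers_comm L _ hLc hy)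
      have hKL := hmax.le_of_ge hKab le_sup_left
      have haL : a ^ p ^ (i - 1) ∈ L ⊓ A :=
        ⟨hKL ((le_sup_right : Subgroup.zpowers (a ^ p ^ (i - 1)) ≤ _) (Subgroup.mem_zpowers _)),
          A.pow_mem haA _⟩
      have := (hlevA _).mp haL
      rw [Nat.pow_dvd_pow_iff_le_right hp.one_lt] at this
      omega
  · intro hcardeq
    refine ⟨(first L).mpr hcardeq.le, fun K hK hLK => ?_⟩
    have h1 := (first K).mp hK
    have h2 : Nat.card ↥K ≤ Nat.card ↥L := by rw [hcardeq]; exact h1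
    exact (Subgroup.eq_of_le_of_card_ge hLK h2).ge

end abel

end Cfsg.Agent.Lib.Helper20.Metacyc
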