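import Mathlib
import Cfsg.Agent.Lib.Helper20.Metacyc
import Cfsg.Agent.Lib.Helper20.Metacyc2
import Cfsg.Agent.Lib.Helper20.Metacyc3
import Cfsg.Agent.Lib.Helper20.ESpecial
import Cfsg.Agent.Lib.Helper16.Basic

set_option autoImplicit false

namespace Cfsg.Agent.Lib.Helper20.Metacyc

open scoped commutatorElement Pointwise

section count

variable {G : Type*} [Group G] [Finite G] {p : ℕ} [Fact p.Prime]

theorem pow_closure_normal (p : ℕ) (s : ℕ) :
    (Subgroup.closure {x : G | ∃ y : G, y ^ p ^ s = x}).Normal := by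
  constructor
  intro n hn g
  have h : Subgroup.closure {x : G | ∃ y : G, y ^ p ^ s = x} ≤
      (Subgroup.closure {x : G | ∃ y : G, y ^ p ^ s = x}).comap (MulAut.conj g).toMonoidHom := by
    rw [Subgroup.closure_le]
    rintro _ ⟨y, rfl⟩
    show g * y ^ p ^ s * g⁻¹ ∈ Subgroup.closure {x : G | ∃ y : G, y ^ p ^ s = x}
    apply Subgroup.subset_closure
    exact ⟨g * y * g⁻¹, by rw [conj_pow]⟩
  exact h hn

theorem relIndex_le_index (H K : Subgroup G) : H.relIndex K ≤ H.index := by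
  have e1 := Subgroup.relIndex_mul_index (inf_le_right : H ⊓ K ≤ K)
  have e2 : (H ⊓ K).index ≤ H.index * K.index := Subgroup.index_inf_le
  rw [Subgroup.inf_relIndex_right] at e1
  rw [← e1] at e2
  exact Nat.le_of_mul_le_mul_right e2 (Nat.pos_of_ne_zero Subgroup.index_ne_zero_of_finite)

theorem relIndex_centralizer (hG : IsPGroup p G) (A : Subgroup G) [hn : A.Normal]
    [hA : IsCyclic A] {a : G} (haA : a ∈ A) (ha : ∀ x ∈ A, ∃ l : ℕ, x = a ^ l) (w : G) :
    (Subgroup.centralizer ({w} : Set G)).relIndex A = orderOf (cb a w) := by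
  obtain ⟨i, hi, hl⟩ := level_A hG A haA ha (Subgroup.centralizer ({w} : Set G))
  have hmem : ∀ e : ℕ, a ^ e ∈ Subgroup.centralizer ({w} : Set G) ↔ cb a w ^ e = 1 := by
    intro e
    rw [← cb_pow A haA w e, cb_eq_one_iff, Subgroup.mem_centralizer_iff]
    constructor
    · intro h
      exact (h w rfl).symm
    · intro h k hk
      rw [Set.mem_singleton_iff] at hk
      rw [hk]
      exact h.symm.eq
  rw [hi]
  apply Nat.dvd_antisymm
  · rw [← hl, hmem]
    exact pow_orderOf_eq_one _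
  · rw [orderOf_dvd_iff_pow_eq_one, ← hmem, hl]

theorem le_orderOf_cb (hp2 : p ≠ 2) (hG : IsPGroup p G) (A : Subgroup G) [hn : A.Normal]
    [hA : IsCyclic A] {a b : G} (haA : a ∈ A) (ha : ∀ x ∈ A, ∃ l : ℕ, x = a ^ l) {n : ℕ}
    (hdn : orderOf (cb a b) = p ^ n) {x' : G} (hx' : x' ∈ A) (j : ℕ) :
    p ^ (n - j) ≤ orderOf (cb a (x' * b ^ p ^ j)) := by
  have hp : p.Prime := Fact.out
  obtain ⟨t, ht⟩ := exists_orderOf_eq_prime_pow_iff.mpr (hG (cb a (x' * b ^ p ^ j)))
  have h1 := pow_orderOf_eq_one (cb a (x' * b ^ p ^ j))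
  rw [ht] at h1
  have h2 := (pow_mem_C_iff hp2 hG A haA ha (x' * b ^ p ^ j) (p ^ t)).mpr h1
  have h3 := (pow_mem_C_cov hp2 hG A haA ha hx' (p ^ j) (p ^ t)).mp h2
  rw [← orderOf_dvd_iff_pow_eq_one, hdn, ← pow_add, Nat.pow_dvd_pow_iff_le_right hp.one_lt] at h3
  rw [ht]
  exact Nat.pow_le_pow_right hp.pos (by omega)

theorem index_pow_closure (hp2 : p ≠ 2) (hG : IsPGroup p G) (A : Subgroup G) [hn : A.Normal]
    [hA : IsCyclic A] {a b : G} (haA : a ∈ A) (ha : ∀ x ∈ A, ∃ l : ℕ, x = a ^ l)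
    (hb : Cov A b) {n : ℕ} (hdn : orderOf (cb a b) = p ^ n) {s : ℕ} (hs : s ≤ n) :
    (Subgroup.closure {x : G | ∃ y : G, y ^ p ^ s = x}).index = p ^ s * p ^ s := by
  have hp : p.Prime := Fact.out
  have hWiff := fun g => mem_pow_closure_iff hp2 hG A haA ha hb hdn hs g
  rw [index_L A]
  obtain ⟨j, hj, hlev⟩ := level hG A hb
    (Subgroup.closure {x : G | ∃ y : G, y ^ p ^ s = x} ⊔ A) le_sup_right
  obtain ⟨i, hi, hlevA⟩ := level_A hG A haA ha
    (Subgroup.closure {x : G | ∃ y : G, y ^ p ^ s = x} ⊓ A)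
  rw [hi, hj]
  have his : i ≤ s := by
    have h1 : a ^ p ^ s ∈ Subgroup.closure {x : G | ∃ y : G, y ^ p ^ s = x} ⊓ A :=
      ⟨Subgroup.subset_closure ⟨a, rfl⟩, A.pow_mem haA _⟩
    exact (Nat.pow_dvd_pow_iff_le_right hp.one_lt).mp ((hlevA _).mp h1)
  have hjs : j ≤ s := by
    have h1 : b ^ p ^ s ∈ Subgroup.closure {x : G | ∃ y : G, y ^ p ^ s = x} ⊔ A :=
      (le_sup_left : _ ≤ Subgroup.closure {x : G | ∃ y : G, y ^ p ^ s = x} ⊔ A)
        (Subgroup.subset_closure ⟨b, rfl⟩)
    exact (Nat.pow_dvd_pow_iff_le_right hp.one_lt).mp ((hlev _).mp h1)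
  have hsi : s ≤ i := by
    have haW : a ^ p ^ i ∈ Subgroup.closure {x : G | ∃ y : G, y ^ p ^ s = x} :=
      ((hlevA (p ^ i)).mpr dvd_rfl).1
    have hidx := (hWiff _).mp haW
    have hAX : A ≤ Subgroup.centralizer ({a ^ p ^ i} : Set G) := by
      intro x hx
      rw [Subgroup.mem_centralizer_iff]
      intro k hk
      rw [Set.mem_singleton_iff] at hk
      rw [hk]
      exact comm_of_mem A (A.pow_mem haA _) hx
    obtain ⟨j', hj', hlev'⟩ := level hG A hb _ hAX
    have h1 : b ^ p ^ j' ∈ Subgroup.centralizer ({a ^ p ^ i} : Set G) := (hlev' _).mpr dvd_rfl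
    have h2 : Commute (b ^ p ^ j') (a ^ p ^ i) :=
      (Subgroup.mem_centralizer_iff.mp h1 _ rfl).symm
    have h3 := (comm_pow_iff hp2 hG A (b ^ p ^ j') haA (p ^ i)).mpr h2
    have h4 := (mem_C_iff A haA ha _).mpr h3
    rw [← pow_mul, pow_mem_C_iff hp2 hG A haA ha b, ← orderOf_dvd_iff_pow_eq_one, hdn,
      ← pow_add, Nat.pow_dvd_pow_iff_le_right hp.one_lt] at h4
    rw [hj', Nat.pow_le_pow_iff_right hp.one_lt] at hidx
    omega
  have hsj : s ≤ j := by
    have hbH : b ^ p ^ j ∈ Subgroup.closure {x : G | ∃ y : G, y ^ p ^ s = x} ⊔ A :=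
      (hlev (p ^ j)).mpr dvd_rfl
    rw [← SetLike.mem_coe, Subgroup.mul_normal] at hbH
    obtain ⟨w, hw, x, hx, h⟩ := Set.mem_mul.mp hbH
    have hw' : w = b ^ p ^ j * x⁻¹ * (b ^ p ^ j)⁻¹ * b ^ p ^ j := by
      rw [← h]
      group
    have hidx := (hWiff _).mp hw
    have h1 := relIndex_le_index (Subgroup.centralizer ({w} : Set G)) A
    rw [relIndex_centralizer hG A haA ha w] at h1
    have h2 := le_orderOf_cb hp2 hG A haA ha hdn (hn.conj_mem _ (A.inv_mem hx) (b ^ p ^ j)) j
    rw [← hw'] at h2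
    have h3 : p ^ (n - j) ≤ p ^ (n - s) := h2.trans (h1.trans hidx)
    rw [Nat.pow_le_pow_iff_right hp.one_lt] at h3
    omega
  have e1 : i = s := le_antisymm his hsi
  have e2 : j = s := le_antisymm hjs hsj
  rw [e1, e2]

theorem count_class (hp2 : p ≠ 2) (hG : IsPGroup p G) (A : Subgroup G) [hn : A.Normal]
    [hA : IsCyclic A] {a b : G} (haA : a ∈ A) (ha : ∀ x ∈ A, ∃ l : ℕ, x = a ^ l)
    (hb : Cov A b) {n : ℕ} (hdn : orderOf (cb a b) = p ^ n) {i : ℕ} (hi : 1 ≤ i) (hin : i ≤ n) :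
    Nat.card {g : G // (Subgroup.centralizer ({g} : Set G)).index = p ^ i} =
      Nat.card ↥(Subgroup.center G) * (p ^ (2 * i) - p ^ (2 * i - 2)) := by
  have hp : p.Prime := Fact.out
  have hs1 : n - i ≤ n := by omega
  have hs2 : n - i + 1 ≤ n := by omega
  have hW1 := fun g => mem_pow_closure_iff hp2 hG A haA ha hb hdn hs1 g
  have hW2 := fun g => mem_pow_closure_iff hp2 hG A haA ha hb hdn hs2 g
  have e1 : n - (n - i) = i := by omega
  have e2 : n - (n - i + 1) = i - 1 := by omega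
  rw [e1] at hW1
  rw [e2] at hW2
  have hset : {g : G | (Subgroup.centralizer ({g} : Set G)).index = p ^ i} =
      (Subgroup.closure {x : G | ∃ y : G, y ^ p ^ (n - i) = x} : Set G) \
        (Subgroup.closure {x : G | ∃ y : G, y ^ p ^ (n - i + 1) = x} : Set G) := by
    ext g
    rw [Set.mem_sdiff, SetLike.mem_coe, SetLike.mem_coe, hW1, hW2]
    obtain ⟨t, ht⟩ := hG.index (Subgroup.centralizer ({g} : Set G))
    show (Subgroup.centralizer ({g} : Set G)).index = p ^ i ↔ _
    rw [ht, Nat.pow_le_pow_iff_right hp.one_lt, Nat.pow_le_pow_iff_right hp.one_lt]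
    constructor
    · intro h
      have := Nat.pow_right_injective hp.two_le h
      omega
    · intro h
      have : t = i := by omega
      rw [this]
  have hsub : (Subgroup.closure {x : G | ∃ y : G, y ^ p ^ (n - i + 1) = x} : Set G) ⊆
      (Subgroup.closure {x : G | ∃ y : G, y ^ p ^ (n - i) = x} : Set G) := by
    intro g hg
    rw [SetLike.mem_coe, hW2] at hg
    rw [SetLike.mem_coe, hW1]
    exact hg.trans (Nat.pow_le_pow_right hp.pos (by omega))
  have hcard : Nat.card {g : G // (Subgroup.centralizer ({g} : Set G)).index = p ^ i} =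
      Set.ncard {g : G | (Subgroup.centralizer ({g} : Set G)).index = p ^ i} :=
    Nat.card_coe_set_eq {g : G | (Subgroup.centralizer ({g} : Set G)).index = p ^ i}
  rw [hcard, hset, Set.ncard_sdiff hsub (Set.toFinite _)]
  have c1 : (Subgroup.closure {x : G | ∃ y : G, y ^ p ^ (n - i) = x} : Set G).ncard =
      Nat.card ↥(Subgroup.closure {x : G | ∃ y : G, y ^ p ^ (n - i) = x}) :=
    (Nat.card_coe_set_eq _).symm
  have c2 : (Subgroup.closure {x : G | ∃ y : G, y ^ p ^ (n - i + 1) = x} : Set G).ncard =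
      Nat.card ↥(Subgroup.closure {x : G | ∃ y : G, y ^ p ^ (n - i + 1) = x}) :=
    (Nat.card_coe_set_eq _).symm
  rw [c1, c2]
  have k1 := Subgroup.card_mul_index (Subgroup.closure {x : G | ∃ y : G, y ^ p ^ (n - i) = x})
  have k2 := Subgroup.card_mul_index
    (Subgroup.closure {x : G | ∃ y : G, y ^ p ^ (n - i + 1) = x})
  have k3 := Subgroup.card_mul_index (Subgroup.center G)
  rw [index_pow_closure hp2 hG A haA ha hb hdn hs1] at k1
  rw [index_pow_closure hp2 hG A haA ha hb hdn hs2] at k2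
  rw [index_center hp2 hG A haA ha hb, hdn] at k3
  have f1 : Nat.card ↥(Subgroup.closure {x : G | ∃ y : G, y ^ p ^ (n - i) = x}) =
      Nat.card ↥(Subgroup.center G) * p ^ (2 * i) := by
    have e3 : (p ^ n) ^ 2 = p ^ (2 * i) * (p ^ (n - i) * p ^ (n - i)) := by
      rw [← pow_mul, ← pow_add, ← pow_add]
      congr 1
      omega
    rw [e3, ← k1, ← mul_assoc] at k3
    exact (Nat.eq_of_mul_eq_mul_right (mul_pos (pow_pos hp.pos _) (pow_pos hp.pos _)) k3).symm
  have f2 : Nat.card ↥(Subgroup.closure {x : G | ∃ y : G, y ^ p ^ (n - i + 1) = x}) =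
      Nat.card ↥(Subgroup.center G) * p ^ (2 * i - 2) := by
    have e3 : (p ^ n) ^ 2 = p ^ (2 * i - 2) * (p ^ (n - i + 1) * p ^ (n - i + 1)) := by
      rw [← pow_mul, ← pow_add, ← pow_add]
      congr 1
      omega
    rw [e3, ← k2, ← mul_assoc] at k3
    exact (Nat.eq_of_mul_eq_mul_right (mul_pos (pow_pos hp.pos _) (pow_pos hp.pos _)) k3).symm
  rw [f1, f2, Nat.mul_sub]

theorem frattini_eq (hG : IsPGroup p G) (A : Subgroup G) [hn : A.Normal]
    [hA : IsCyclic A] {a b : G} (haA : a ∈ A) (ha : ∀ x ∈ A, ∃ l : ℕ, x = a ^ l)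
    (hb : Cov A b) :
    frattini G = Subgroup.closure {x : G | ∃ y : G, y ^ p ^ 1 = x} := by
  apply le_antisymm
  · have hWn := pow_closure_normal (G := G) p 1
    have hd : cb a b ∈ Subgroup.closure {x : G | ∃ y : G, y ^ p ^ 1 = x} := by
      obtain ⟨ρ, hρ, hc⟩ := exists_rho hG A b
      have h1 := hc a⁻¹ (A.inv_mem haA)
      have h2 : ρ = p * (ρ / p) + 1 := by
        have := Nat.div_add_mod ρ p
        omega
      have h3 : cb a b = (a⁻¹ ^ (ρ / p)) ^ p ^ 1 := by
        have e1 : cb a b = a * (b * a⁻¹ * b⁻¹) := by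
          unfold cb
          group
        rw [e1, h1, pow_one, ← pow_mul, mul_comm (ρ / p) p]
        nth_rewrite 1 [h2]
        rw [pow_succ]
        have c1 : Commute a (a⁻¹ ^ (p * (ρ / p))) := ((Commute.refl a).inv_right).pow_right _
        rw [← mul_assoc, c1.eq, mul_assoc, mul_inv_cancel, mul_one]
      rw [h3]
      exact Subgroup.subset_closure ⟨_, rfl⟩
    have hcomm : commutator G ≤ Subgroup.closure {x : G | ∃ y : G, y ^ p ^ 1 = x} := by
      rw [commutator_eq hG A haA ha hb, Subgroup.zpowers_le]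
      exact hd
    have h := Cfsg.Agent.Lib.Helper16.Basic.frattini_le_ker_of_elementary (p := p)
      (QuotientGroup.mk' (Subgroup.closure {x : G | ∃ y : G, y ^ p ^ 1 = x}))
      (by
        intro x y
        rw [← map_mul, ← map_mul]
        apply QuotientGroup.eq.mpr
        apply hcomm
        have e1 : (x * y)⁻¹ * (y * x) = ⁅y⁻¹, x⁻¹⁆ := by
          rw [commutatorElement_def]
          group
        rw [e1, commutator_def]
        exact Subgroup.commutator_mem_commutator (Subgroup.mem_top _) (Subgroup.mem_top _))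
      (by
        intro x
        rw [← map_pow]
        exact (QuotientGroup.eq_one_iff _).mpr (Subgroup.subset_closure ⟨x, by rw [pow_one]⟩))
    rw [QuotientGroup.ker_mk'] at h
    exact h
  · rw [Subgroup.closure_le]
    rintro _ ⟨y, rfl⟩
    rw [pow_one]
    exact Cfsg.Agent.Lib.Helper20.ESpecial.pow_mem_frattini hG y

theorem not_mem_frattini_iff (hp2 : p ≠ 2) (hG : IsPGroup p G) (A : Subgroup G) [hn : A.Normal]
    [hA : IsCyclic A] {a b : G} (haA : a ∈ A) (ha : ∀ x ∈ A, ∃ l : ℕ, x = a ^ l)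
    (hb : Cov A b) (hna : ¬ IsMulCommutative G) (g : G) :
    g ∉ frattini G ↔ IsMulCommutative ↥(Subgroup.centralizer ({g} : Set G)) := by
  have hp : p.Prime := Fact.out
  obtain ⟨n, hdn⟩ := exists_orderOf_eq_prime_pow_iff.mpr (hG (cb a b))
  have hn1 : 1 ≤ n := by
    by_contra h0
    have hn0 : n = 0 := by omega
    apply hna
    have h1 := index_center hp2 hG A haA ha hb
    rw [hdn, hn0, pow_zero, one_pow, Subgroup.index_eq_one] at h1
    refine ⟨⟨fun x y => ?_⟩⟩
    have : y ∈ Subgroup.center G := by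
      rw [h1]
      exact Subgroup.mem_top y
    exact Subgroup.mem_center_iff.mp this x
  rw [frattini_eq hG A haA ha hb, mem_pow_closure_iff hp2 hG A haA ha hb hdn hn1 g,
    (abelian_card hp2 hG A haA ha hb (Subgroup.centralizer ({g} : Set G))).1]
  have h1 := Subgroup.card_mul_index (Subgroup.centralizer ({g} : Set G))
  have h2 := Subgroup.card_mul_index (commutator G)
  rw [card_commutator hG A haA ha hb, hdn] at h2
  obtain ⟨t, ht⟩ := hG.index (Subgroup.centralizer ({g} : Set G))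
  have htn : t ≤ n := by
    have h3 : g ∈ Subgroup.closure {x : G | ∃ y : G, y ^ p ^ 0 = x} :=
      Subgroup.subset_closure ⟨g, by simp⟩
    have h4 := (mem_pow_closure_iff hp2 hG A haA ha hb hdn (Nat.zero_le n) g).mp h3
    rw [ht, Nat.sub_zero, Nat.pow_le_pow_iff_right hp.one_lt] at h4
    exact h4
  rw [ht] at h1 ⊢
  rw [Nat.pow_le_pow_iff_right hp.one_lt]
  have hpos : 0 < (commutator G).index := Nat.pos_of_ne_zero Subgroup.index_ne_zero_of_finite
  constructor
  · intro h
    have htn' : t = n := by omega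
    rw [htn', ← h2, mul_comm] at h1
    exact (Nat.eq_of_mul_eq_mul_left (pow_pos hp.pos n) h1).le
  · intro h hle
    have e1 : p ^ n = p ^ t * p ^ (n - t) := by
      rw [← pow_add]
      congr 1
      omega
    rw [← h2, e1, mul_comm, mul_assoc] at h1
    have h3 := Nat.eq_of_mul_eq_mul_left (pow_pos hp.pos t) h1
    have h4 : p ≤ p ^ (n - t) := by
      calc p = p ^ 1 := (pow_one p).symm
        _ ≤ p ^ (n - t) := Nat.pow_le_pow_right hp.pos (by omega)
    have h5 : 2 * (commutator G).index ≤ p ^ (n - t) * (commutator G).index :=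
      Nat.mul_le_mul_right _ (hp.two_le.trans h4)
    omega

end count

end Cfsg.Agent.Lib.Helper20.Metacyc
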