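import Mathlib
import Cfsg.Agent.Lib.Helper20.Metacyc
import Cfsg.Agent.Lib.Helper20.Metacyc2
import Cfsg.Agent.Lib.Helper20.Metacyc3

set_option autoImplicit false

namespace Cfsg.Agent.Lib.Helper20.Metacyc

theorem pow_dvd_geom_iff {p : ℕ} (hp : p.Prime) (hp2 : p ≠ 2) {ρ : ℕ} (hρ : ρ % p = 1)
    (e T : ℕ) : p ^ T ∣ ∑ l ∈ Finset.range e, ρ ^ l ↔ p ^ T ∣ e := by
  have hρ1 : 1 ≤ ρ := by
    rcases Nat.eq_zero_or_pos ρ with h | h
    · subst h
      simp at hρ
    · exact h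
  by_cases h1 : ρ = 1
  · subst h1
    simp
  · have hne : ρ - 1 ≠ 0 := by omega
    obtain ⟨v, r, hr, hv⟩ := Nat.exists_eq_pow_mul_and_not_dvd hne p hp.ne_one
    have hgeo : (∑ l ∈ Finset.range e, ρ ^ l) * (ρ - 1) = ρ ^ e - 1 := by
      have h := geom_sum_mul (ρ : ℤ) e
      zify [hρ1, Nat.one_le_pow e ρ hρ1]
      exact h
    have hcop : Nat.Coprime (p ^ T) r :=
      Nat.Coprime.pow_left _ ((Nat.Prime.coprime_iff_not_dvd hp).mpr hr)
    have aux : ∀ X : ℕ, p ^ (T + v) ∣ X * (p ^ v * r) ↔ p ^ T ∣ X := by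
      intro X
      have e1 : X * (p ^ v * r) = p ^ v * (X * r) := by ring
      have e2 : p ^ (T + v) = p ^ v * p ^ T := by ring
      rw [e1, e2, Nat.mul_dvd_mul_iff_left (pow_pos hp.pos v), hcop.dvd_mul_right]
    have key := pow_dvd_mul_iff hp hp2 hρ 1 e (T + v)
    rw [one_mul, one_mul, ← hgeo, hv, aux, aux] at key
    exact key

section factor

variable {G : Type*} [Group G] [Finite G] {p : ℕ} [Fact p.Prime]

theorem pow_mul_dvd (hp2 : p ≠ 2) (hG : IsPGroup p G) (A : Subgroup G) [hn : A.Normal]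
    [hA : IsCyclic A] (g : G) {y : G} (hy : y ∈ A) (e : ℕ) :
    ∃ S : ℕ, (y * g) ^ e = y ^ S * g ^ e ∧ ∀ T : ℕ, p ^ T ∣ S ↔ p ^ T ∣ e := by
  obtain ⟨ρ, hρ, hc⟩ := exists_rho hG A g
  exact ⟨_, mul_pow_rho A hc hy e, fun T => pow_dvd_geom_iff Fact.out hp2 hρ e T⟩

theorem exact_norm (hp2 : p ≠ 2) (hG : IsPGroup p G) (A : Subgroup G) [hn : A.Normal]
    [hA : IsCyclic A] (g : G) (T : ℕ) :
    ∃ u : ℕ, ¬ p ∣ u ∧ ∀ y ∈ A, (y * g) ^ p ^ T = y ^ (p ^ T * u) * g ^ p ^ T := by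
  have hp : p.Prime := Fact.out
  obtain ⟨ρ, hρ, hc⟩ := exists_rho hG A g
  have h1 := (pow_dvd_geom_iff hp hp2 hρ (p ^ T) T).mpr dvd_rfl
  obtain ⟨u, hu⟩ := h1
  refine ⟨u, ?_, fun y hy => ?_⟩
  · intro hpu
    obtain ⟨u', rfl⟩ := hpu
    have h2 : p ^ (T + 1) ∣ ∑ l ∈ Finset.range (p ^ T), ρ ^ l := by
      rw [hu, pow_succ]
      exact Nat.mul_dvd_mul_left _ (dvd_mul_right p u')
    have h3 := (pow_dvd_geom_iff hp hp2 hρ (p ^ T) (T + 1)).mp h2
    rw [Nat.pow_dvd_pow_iff_le_right hp.one_lt] at h3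
    omega
  · rw [mul_pow_rho A hc hy (p ^ T), hu]

theorem mem_zpowers_nat {x z : G} (h : z ∈ Subgroup.zpowers x) : ∃ e : ℕ, x ^ e = z := by
  have := mem_powers_iff_mem_zpowers.mpr h
  exact (Submonoid.mem_powers_iff _ _).mp this

theorem factor_case1 (A : Subgroup G) [hn : A.Normal] [hA : IsCyclic A] {b : G}
    {k : ℕ} (hk : A.index = p ^ k) (hlev : ∀ e : ℕ, b ^ e ∈ A ↔ p ^ k ∣ e) {y : G} (hy : y ∈ A)
    (h : (y * b) ^ p ^ k = 1) :
    ∃ A' B' : Subgroup G, IsCyclic ↥A' ∧ IsCyclic ↥B' ∧ A' ⊓ B' = ⊥ ∧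
      Nat.card ↥A' * Nat.card ↥B' = Nat.card G := by
  have claim : ∀ e : ℕ, (y * b) ^ e ∈ A → p ^ k ∣ e := by
    intro e he
    obtain ⟨x', hx', h'⟩ := mul_pow_mem A hy b e
    rw [h'] at he
    have := A.mul_mem (A.inv_mem hx') he
    rw [inv_mul_cancel_left] at this
    exact (hlev e).mp this
  refine ⟨A, Subgroup.zpowers (y * b), hA, inferInstance, ?_, ?_⟩
  · rw [eq_bot_iff]
    rintro z ⟨hzA, hzB⟩
    obtain ⟨e, rfl⟩ := mem_zpowers_nat hzB
    obtain ⟨e', rfl⟩ := claim e hzA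
    rw [Subgroup.mem_bot, pow_mul, h, one_pow]
  · have ho : orderOf (y * b) = p ^ k := by
      apply Nat.dvd_antisymm (orderOf_dvd_of_pow_eq_one h)
      apply claim
      rw [pow_orderOf_eq_one]
      exact A.one_mem
    rw [Nat.card_zpowers, ho, ← hk]
    exact Subgroup.card_mul_index A

theorem factor_case2 {x b : G} {t : ℕ} (hx : x ^ p ^ t = 1)
    (hcl : ∀ e : ℕ, x ^ e ∈ Subgroup.zpowers b → p ^ t ∣ e)
    (hcard : p ^ t * orderOf b = Nat.card G) :
    ∃ A' B' : Subgroup G, IsCyclic ↥A' ∧ IsCyclic ↥B' ∧ A' ⊓ B' = ⊥ ∧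
      Nat.card ↥A' * Nat.card ↥B' = Nat.card G := by
  refine ⟨Subgroup.zpowers x, Subgroup.zpowers b, inferInstance, inferInstance, ?_, ?_⟩
  · rw [eq_bot_iff]
    rintro z ⟨hzA, hzB⟩
    obtain ⟨e, rfl⟩ := mem_zpowers_nat hzA
    obtain ⟨e', rfl⟩ := hcl e hzB
    rw [Subgroup.mem_bot, pow_mul, hx, one_pow]
  · have ho : orderOf x = p ^ t := by
      apply Nat.dvd_antisymm (orderOf_dvd_of_pow_eq_one hx)
      apply hcl
      rw [pow_orderOf_eq_one]
      exact Subgroup.one_mem _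
    rw [Nat.card_zpowers, Nat.card_zpowers, ho]
    exact hcard

theorem factorization (hp2 : p ≠ 2) (hG : IsPGroup p G) (A : Subgroup G) [hn : A.Normal]
    [hA : IsCyclic A] {a b : G} (haA : a ∈ A) (ha : ∀ x ∈ A, ∃ l : ℕ, x = a ^ l)
    (hb : Cov A b) :
    ∃ A' B' : Subgroup G, IsCyclic ↥A' ∧ IsCyclic ↥B' ∧ A' ⊓ B' = ⊥ ∧
      Nat.card ↥A' * Nat.card ↥B' = Nat.card G := by
  have hp : p.Prime := Fact.out
  obtain ⟨k, hk, hlev⟩ := level hG A hb A le_rfl
  obtain ⟨m, hm⟩ := exists_orderOf_eq_prime_pow_iff.mpr (hG a)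
  have hAz : A = Subgroup.zpowers a := by
    apply le_antisymm
    · intro x hx
      obtain ⟨l, rfl⟩ := ha x hx
      exact Subgroup.pow_mem _ (Subgroup.mem_zpowers a) l
    · rw [Subgroup.zpowers_le]
      exact haA
  have hAcard : Nat.card ↥A = p ^ m := by
    rw [← hm, ← Nat.card_zpowers a, ← hAz]
  have hβA : b ^ p ^ k ∈ A := (hlev _).mpr dvd_rfl
  have hapm : a ^ p ^ m = 1 := by
    rw [← hm]
    exact pow_orderOf_eq_one a
  by_cases hβ1 : b ^ p ^ k = 1
  · exact factor_case1 A hk hlev A.one_mem (by rw [one_mul]; exact hβ1)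
  · obtain ⟨c₀', hc₀'⟩ := ha _ hβA
    have hc₀ : b ^ p ^ k = a ^ (c₀' % p ^ m) := by
      rw [hc₀', ← hm, pow_mod_orderOf]
    have hc₀ne : c₀' % p ^ m ≠ 0 := by
      intro h0
      rw [h0, pow_zero] at hc₀
      exact hβ1 hc₀
    have hc₀lt : c₀' % p ^ m < p ^ m := Nat.mod_lt _ (pow_pos hp.pos m)
    obtain ⟨t, c₁, hc₁, hc⟩ := Nat.exists_eq_pow_mul_and_not_dvd hc₀ne p hp.ne_one
    rw [hc] at hc₀ hc₀lt
    have hc₁pos : 0 < c₁ := by
      rcases Nat.eq_zero_or_pos c₁ with h | h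
      · subst h
        exact absurd (dvd_zero p) hc₁
      · exact h
    have htm : t < m := by
      have h1 : p ^ t ≤ p ^ t * c₁ := Nat.le_mul_of_pos_right _ hc₁pos
      exact (Nat.pow_lt_pow_iff_right hp.one_lt).mp (lt_of_le_of_lt h1 hc₀lt)
    have hpm1 : 1 < p ^ m := Nat.one_lt_pow (by omega) hp.one_lt
    have hkill : ∀ c : ℕ, a ^ ((p ^ m - 1) * c) * a ^ c = 1 := by
      intro c
      rw [← pow_add]
      have e1 : (p ^ m - 1) * c + c = p ^ m * c := by
        have : p ^ m - 1 + 1 = p ^ m := by omega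
        calc (p ^ m - 1) * c + c = (p ^ m - 1 + 1) * c := by ring
          _ = p ^ m * c := by rw [this]
      rw [e1, pow_mul, hapm, one_pow]
    have hinvu : ∀ u : ℕ, ¬ p ∣ u → ∃ u' : ℕ, ¬ p ∣ u' ∧ ∀ l : ℕ, (a ^ l) ^ (u * u') = a ^ l := by
      intro u hu
      have hcop : Nat.Coprime u (p ^ m) :=
        Nat.Coprime.pow_right _ (((Nat.Prime.coprime_iff_not_dvd hp).mpr hu).symm)
      obtain ⟨u', -, hu'⟩ := Nat.exists_mul_mod_eq_one_of_coprime hcop hpm1
      refine ⟨u', ?_, fun l => ?_⟩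
      · intro hpu'
        have h1 : p ∣ u * u' := Dvd.dvd.mul_left hpu' u
        have h2 : p ∣ u * u' % p ^ m :=
          (Nat.dvd_mod_iff (dvd_pow_self p (by omega))).mpr h1
        rw [hu'] at h2
        exact hp.one_lt.ne' (Nat.dvd_one.mp h2)
      · rw [← pow_mul, mul_comm l, pow_mul, ← pow_mod_orderOf a (u * u'), hm, hu', pow_one]
    by_cases htk : k ≤ t
    · obtain ⟨u, hu, hnorm⟩ := exact_norm hp2 hG A b k
      obtain ⟨u', -, hinv⟩ := hinvu u hu
      have hy1 : ∀ l N : ℕ, ((a ^ l) ^ u') ^ (N * u) = (a ^ l) ^ N := by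
        intro l N
        rw [← pow_mul, show u' * (N * u) = (u * u') * N by ring, pow_mul, hinv]
      refine factor_case1 A hk hlev
        (y := (a ^ ((p ^ m - 1) * (p ^ (t - k) * c₁))) ^ u') (A.pow_mem (A.pow_mem haA _) _) ?_
      rw [hnorm _ (A.pow_mem (A.pow_mem haA _) _), hc₀, hy1, ← pow_mul]
      have e1 : (p ^ m - 1) * (p ^ (t - k) * c₁) * p ^ k = (p ^ m - 1) * (p ^ t * c₁) := by
        have : p ^ t = p ^ (t - k) * p ^ k := by
          rw [← pow_add]
          congr 1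
          omega
        rw [this]
        ring
      rw [e1]
      exact hkill _
    · push_neg at htk
      obtain ⟨u, hu, hnorm⟩ := exact_norm hp2 hG A (b ^ p ^ (k - t)) t
      obtain ⟨u', hu', hinv⟩ := hinvu u hu
      have hy1 : ∀ l N : ℕ, ((a ^ l) ^ u') ^ (N * u) = (a ^ l) ^ N := by
        intro l N
        rw [← pow_mul, show u' * (N * u) = (u * u') * N by ring, pow_mul, hinv]
      have hyA : (a ^ ((p ^ m - 1) * c₁)) ^ u' ∈ A := A.pow_mem (A.pow_mem haA _) _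
      have hgt : (b ^ p ^ (k - t)) ^ p ^ t = b ^ p ^ k := by
        rw [← pow_mul, ← pow_add]
        congr 2
        omega
      have hx : ((a ^ ((p ^ m - 1) * c₁)) ^ u' * b ^ p ^ (k - t)) ^ p ^ t = 1 := by
        rw [hnorm _ hyA, hgt, hc₀, hy1, ← pow_mul]
        have e1 : (p ^ m - 1) * c₁ * p ^ t = (p ^ m - 1) * (p ^ t * c₁) := by ring
        rw [e1]
        exact hkill _
      have hw : ¬ p ∣ (p ^ m - 1) * c₁ * u' := by
        intro h
        rcases (Nat.Prime.dvd_mul hp).mp h with h | h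
        · rcases (Nat.Prime.dvd_mul hp).mp h with h | h
          · have h2 : p ∣ p ^ m := dvd_pow_self p (by omega)
            have h3 : p ∣ p ^ m - (p ^ m - 1) := Nat.dvd_sub h2 h
            have h4 : p ^ m - (p ^ m - 1) = 1 := by omega
            rw [h4] at h3
            exact hp.one_lt.ne' (Nat.dvd_one.mp h3)
          · exact hc₁ h
        · exact hu' h
      refine factor_case2 (b := b) hx ?_ ?_
      · intro e he
        obtain ⟨S, hS, hSd⟩ := pow_mul_dvd hp2 hG A (b ^ p ^ (k - t)) hyA e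
        rw [hS] at he
        have hge : (b ^ p ^ (k - t)) ^ e ∈ Subgroup.zpowers b := by
          rw [← pow_mul]
          exact Subgroup.pow_mem _ (Subgroup.mem_zpowers b) _
        have hyS : ((a ^ ((p ^ m - 1) * c₁)) ^ u') ^ S ∈ Subgroup.zpowers b := by
          have := Subgroup.mul_mem _ he (Subgroup.inv_mem _ hge)
          rwa [mul_inv_cancel_right] at this
        obtain ⟨e₁, he₁⟩ := mem_zpowers_nat hyS
        have he₁A : b ^ e₁ ∈ A := by
          rw [he₁]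
          exact A.pow_mem hyA S
        obtain ⟨e₂, rfl⟩ := (hlev e₁).mp he₁A
        rw [pow_mul, hc₀, ← pow_mul, ← pow_mul, ← pow_mul, pow_eq_pow_iff_modEq, hm] at he₁
        have h1 : p ^ t ∣ (p ^ m - 1) * c₁ * u' * S := by
          rw [mul_assoc]
          exact (he₁.dvd_iff (pow_dvd_pow p htm.le)).mp (Dvd.dvd.mul_right (dvd_mul_right _ _) _)
        have hcop : Nat.Coprime (p ^ t) ((p ^ m - 1) * c₁ * u') :=
          Nat.Coprime.pow_left _ ((Nat.Prime.coprime_iff_not_dvd hp).mpr hw)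
        exact (hSd t).mp (hcop.dvd_of_dvd_mul_left h1)
      · have hpk : p ^ k ∣ orderOf b := by
          apply (hlev _).mp
          rw [pow_orderOf_eq_one]
          exact A.one_mem
        have h1 := orderOf_pow_of_dvd (pow_pos hp.pos k).ne' hpk
        have h2 : orderOf (a ^ (p ^ t * c₁)) = p ^ (m - t) := by
          rw [orderOf_pow' _ (Nat.mul_pos (pow_pos hp.pos t) hc₁pos).ne', hm]
          have e1 : p ^ m = p ^ t * p ^ (m - t) := by
            rw [← pow_add]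
            congr 1
            omega
          have e2 : Nat.gcd (p ^ t * p ^ (m - t)) (p ^ t * c₁) = p ^ t := by
            rw [Nat.gcd_mul_left]
            have : Nat.Coprime (p ^ (m - t)) c₁ :=
              Nat.Coprime.pow_left _ ((Nat.Prime.coprime_iff_not_dvd hp).mpr hc₁)
            rw [this.gcd_eq_one, mul_one]
          rw [e1, e2, Nat.mul_div_cancel_left _ (pow_pos hp.pos t)]
        rw [hc₀, h2] at h1
        have h3 : orderOf b = p ^ k * p ^ (m - t) := by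
          obtain ⟨q, hq⟩ := hpk
          rw [hq, Nat.mul_div_cancel_left _ (pow_pos hp.pos k)] at h1
          rw [hq, h1]
        have h4 := Subgroup.card_mul_index A
        rw [hk, hAcard] at h4
        rw [h3, ← h4]
        have e1 : p ^ m = p ^ t * p ^ (m - t) := by
          rw [← pow_add]
          congr 1
          omega
        rw [e1]
        ring

end factor

end Cfsg.Agent.Lib.Helper20.Metacyc
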