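import Mathlib
import Cfsg.Prelude.Def_BaumannBlocks
import Cfsg.Agent.Lib.Helper20.Metacyc
import Cfsg.Agent.Lib.Helper20.Metacyc2
import Cfsg.Agent.Lib.Helper20.Metacyc3
import Cfsg.Agent.Lib.Helper20.Metacyc5
import Cfsg.Agent.Lib.Helper17.CD
import Cfsg.Agent.Lib.Helper17.CL

set_option autoImplicit false

namespace Cfsg.Agent.Lib.Helper20.Metacyc

open Cfsg.Agent.Lib.Helper17.CD Cfsg.Agent.Lib.Helper17.CL

section cl

variable {G : Type*} [Group G] [Finite G] {p : ℕ} [Fact p.Prime]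

theorem card_mul_relIndex' {K M : Subgroup G} (h : K ≤ M) :
    Nat.card ↥K * K.relIndex M = Nat.card ↥M := by
  have h1 := Subgroup.relIndex_mul_index h
  have h2 := Subgroup.card_mul_index K
  have h3 := Subgroup.card_mul_index M
  rw [← h1, ← mul_assoc, ← h3] at h2
  exact Nat.eq_of_mul_eq_mul_right (Nat.pos_of_ne_zero Subgroup.index_ne_zero_of_finite) h2

theorem orderOf_cb_sub (hp2 : p ≠ 2) (hG : IsPGroup p G) (A : Subgroup G) [hn : A.Normal]
    [hA : IsCyclic A] {a b : G} (haA : a ∈ A) (ha : ∀ x ∈ A, ∃ l : ℕ, x = a ^ l) {n : ℕ}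
    (hdn : orderOf (cb a b) = p ^ n) {i j : ℕ} (hij : i + j ≤ n) {l₁ x₁ : G} (hx₁ : x₁ ∈ A)
    (hl₁e : l₁ = x₁ * b ^ p ^ j) : orderOf (cb (a ^ p ^ i) l₁) = p ^ (n - (i + j)) := by
  have hp : p.Prime := Fact.out
  have key : ∀ N : ℕ, cb (a ^ p ^ i) l₁ ^ N = 1 ↔ p ^ n ∣ p ^ (i + j) * N := by
    intro N
    rw [← cb_pow A (A.pow_mem haA _) l₁ N, cb_eq_one_iff, ← pow_mul]
    have e1 : Commute (a ^ (p ^ i * N)) l₁ ↔ Commute l₁ (a ^ (p ^ i * N)) :=
      ⟨Commute.symm, Commute.symm⟩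
    rw [e1, ← comm_pow_iff hp2 hG A l₁ haA (p ^ i * N), ← mem_C_iff A haA ha, hl₁e,
      pow_mem_C_cov hp2 hG A haA ha hx₁ (p ^ j) (p ^ i * N), ← orderOf_dvd_iff_pow_eq_one, hdn]
    have e2 : p ^ j * (p ^ i * N) = p ^ (i + j) * N := by ring
    rw [e2]
  have hpn : p ^ n = p ^ (i + j) * p ^ (n - (i + j)) := by
    rw [← pow_add]
    congr 1
    omega
  apply Nat.dvd_antisymm
  · apply orderOf_dvd_of_pow_eq_one
    rw [key, ← hpn]
  · have h := (key _).mp (pow_orderOf_eq_one _)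
    rw [hpn] at h
    exact (Nat.mul_dvd_mul_iff_left (pow_pos hp.pos _)).mp h

theorem card_C_eq (hp2 : p ≠ 2) (hG : IsPGroup p G) (A : Subgroup G) [hn : A.Normal]
    [hA : IsCyclic A] {a b : G} (haA : a ∈ A) (ha : ∀ x ∈ A, ∃ l : ℕ, x = a ^ l)
    (hb : Cov A b) :
    (commutator G).index = Nat.card ↥(Subgroup.centralizer (A : Set G)) := by
  have h1 := Subgroup.card_mul_index (commutator G)
  have h2 := Subgroup.card_mul_index (Subgroup.centralizer (A : Set G))
  rw [card_commutator hG A haA ha hb] at h1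
  rw [index_C hp2 hG A haA ha hb, ← h1, mul_comm] at h2
  exact (Nat.eq_of_mul_eq_mul_left (orderOf_pos _) h2).symm

theorem card_mul_center (hp2 : p ≠ 2) (hG : IsPGroup p G) (A : Subgroup G) [hn : A.Normal]
    [hA : IsCyclic A] {a b : G} (haA : a ∈ A) (ha : ∀ x ∈ A, ∃ l : ℕ, x = a ^ l)
    (hb : Cov A b) (R : Subgroup G) (hR : ¬ IsMulCommutative ↥R) :
    Nat.card ↥R * Nat.card ↥(Subgroup.center ↥R) = (commutator G).index ^ 2 := by
  have hp : p.Prime := Fact.out
  obtain ⟨n, hdn⟩ := exists_orderOf_eq_prime_pow_iff.mpr (hG (cb a b))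
  obtain ⟨j, hj, hlev⟩ := level hG A hb (R ⊔ A) le_sup_right
  obtain ⟨i, hi, hlevA⟩ := level_A hG A haA ha (R ⊓ A)
  obtain ⟨l₁, hl₁, x₁, hx₁, hl₁e, hRgen⟩ := exists_l1 A hb R hlev
  have hab := abelian_iff hp2 hG A haA ha hdn R hlevA hl₁ hx₁ hl₁e hRgen
  have hlt : i + j < n := by
    by_contra h
    exact hR (hab.mpr (by omega))
  have hRidx : R.index = p ^ (i + j) := by
    rw [index_L A R, hi, hj, pow_add]
  have haR : (⟨a ^ p ^ i, ((hlevA (p ^ i)).mpr dvd_rfl).1⟩ : ↥R) ∈ A.subgroupOf R :=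
    Subgroup.mem_subgroupOf.mpr (A.pow_mem haA _)
  have hgenR : ∀ x ∈ A.subgroupOf R, ∃ l : ℕ,
      x = (⟨a ^ p ^ i, ((hlevA (p ^ i)).mpr dvd_rfl).1⟩ : ↥R) ^ l := by
    intro x hx
    have hxA : (x : G) ∈ R ⊓ A := ⟨x.2, Subgroup.mem_subgroupOf.mp hx⟩
    obtain ⟨c, hc⟩ := ha _ hxA.2
    rw [hc] at hxA
    obtain ⟨c', rfl⟩ := (hlevA c).mp hxA
    refine ⟨c', Subtype.ext ?_⟩
    rw [hc, Subgroup.coe_pow, pow_mul]
  haveI : IsCyclic ↥(A.subgroupOf R) := by
    rw [isCyclic_iff_exists_zpowers_eq_top]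
    refine ⟨⟨_, haR⟩, ?_⟩
    rw [eq_top_iff]
    intro x _
    obtain ⟨l, hl⟩ := hgenR x.1 x.2
    have : x = (⟨_, haR⟩ : ↥(A.subgroupOf R)) ^ l := Subtype.ext hl
    rw [this]
    exact Subgroup.pow_mem _ (Subgroup.mem_zpowers _) l
  have hcovR : Cov (A.subgroupOf R) (⟨l₁, hl₁⟩ : ↥R) := by
    intro r
    obtain ⟨δ, hδ, e, he⟩ := hRgen r.1 r.2
    refine ⟨⟨δ, hδ.1⟩, Subgroup.mem_subgroupOf.mpr hδ.2, e, Subtype.ext ?_⟩
    rw [Subgroup.coe_mul, Subgroup.coe_pow]
    exact he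
  have h1 := index_center hp2 (hG.to_subgroup R) (A.subgroupOf R) haR hgenR hcovR
  have h2 : orderOf (cb (⟨a ^ p ^ i, ((hlevA (p ^ i)).mpr dvd_rfl).1⟩ : ↥R) (⟨l₁, hl₁⟩ : ↥R)) =
      p ^ (n - (i + j)) := by
    rw [← Subgroup.orderOf_coe]
    exact orderOf_cb_sub hp2 hG A haA ha hdn hlt.le hx₁ hl₁e
  rw [h2] at h1
  have k1 := Subgroup.card_mul_index (Subgroup.center ↥R)
  rw [h1] at k1
  have k2 := Subgroup.card_mul_index R
  rw [hRidx] at k2
  have k3 := Subgroup.card_mul_index (commutator G)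
  rw [card_commutator hG A haA ha hb, hdn] at k3
  have hpn : p ^ n = p ^ (i + j) * p ^ (n - (i + j)) := by
    rw [← pow_add]
    congr 1
    omega
  have hq : 0 < p ^ (n - (i + j)) := pow_pos hp.pos _
  have hR1 : Nat.card ↥R = p ^ (n - (i + j)) * (commutator G).index := by
    rw [← k3, hpn, mul_assoc, mul_comm] at k2
    exact Nat.eq_of_mul_eq_mul_left (pow_pos hp.pos (i + j)) k2
  have hZ1 : Nat.card ↥(Subgroup.center ↥R) * p ^ (n - (i + j)) = (commutator G).index := by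
    have e3 : p ^ (n - (i + j)) * (Nat.card ↥(Subgroup.center ↥R) * p ^ (n - (i + j))) =
        p ^ (n - (i + j)) * (commutator G).index := by
      rw [← hR1, ← k1]
      ring
    exact Nat.eq_of_mul_eq_mul_left hq e3
  rw [hR1, sq]
  nth_rewrite 2 [← hZ1]
  ring

theorem cl_main (hp2 : p ≠ 2) (hG : IsPGroup p G) (A : Subgroup G) [hn : A.Normal]
    [hA : IsCyclic A] {a b : G} (haA : a ∈ A) (ha : ∀ x ∈ A, ∃ l : ℕ, x = a ^ l)
    (hb : Cov A b) :
    Cfsg.maxCentralProduct G = (commutator G).index ^ 2 ∧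
      ∀ R : Subgroup G, Cfsg.IsCentrallyLarge R ↔
        (¬ IsMulCommutative ↥R ∨ Maximal (fun K : Subgroup G => IsMulCommutative ↥K) R) := by
  have hcomm : ∀ R : Subgroup G, IsMulCommutative ↥R →
      Nat.card ↥R * Nat.card ↥(Subgroup.center ↥R) = Nat.card ↥R ^ 2 := by
    intro R hR
    have : Subgroup.center ↥R = ⊤ := by
      rw [eq_top_iff]
      intro x _
      rw [Subgroup.mem_center_iff]
      intro g
      exact hR.is_comm.comm g x
    rw [this, Subgroup.card_top, sq]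
  have hmax : Cfsg.maxCentralProduct G = (commutator G).index ^ 2 := by
    obtain ⟨R₀, hR₀⟩ := exists_cmeas_eq_max (G := G)
    rw [cmeas_eq] at hR₀
    apply le_antisymm
    · rw [← hR₀]
      by_cases hc : IsMulCommutative ↥R₀
      · rw [hcomm R₀ hc]
        exact Nat.pow_le_pow_left ((abelian_card hp2 hG A haA ha hb R₀).1.mp hc) 2
      · rw [card_mul_center hp2 hG A haA ha hb R₀ hc]
    · have hCab : IsMulCommutative ↥(Subgroup.centralizer (A : Set G)) :=
        (isMulComm_iff _).mpr (fun x hx y hy => C_comm A hb hx hy)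
      have h1 := cmeas_le_max (Subgroup.centralizer (A : Set G))
      rw [cmeas_eq, hcomm _ hCab, ← card_C_eq hp2 hG A haA ha hb] at h1
      exact h1
  refine ⟨hmax, fun R => ?_⟩
  unfold Cfsg.IsCentrallyLarge
  rw [hmax]
  by_cases hc : IsMulCommutative ↥R
  · rw [hcomm R hc, (abelian_card hp2 hG A haA ha hb R).2]
    constructor
    · intro h
      exact Or.inr (Nat.pow_left_injective (by norm_num : (2 : ℕ) ≠ 0) h)
    · rintro (h | h)
      · exact absurd hc h
      · rw [h]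
  · rw [card_mul_center hp2 hG A haA ha hb R hc]
    simp [hc]

theorem pow_mem_center_of_mem (hp2 : p ≠ 2) (hG : IsPGroup p G) (A : Subgroup G)
    [hn : A.Normal] [hA : IsCyclic A] {a b : G} (haA : a ∈ A) (ha : ∀ x ∈ A, ∃ l : ℕ, x = a ^ l)
    (hb : Cov A b) {n : ℕ} (hdn : orderOf (cb a b) = p ^ n) {s : ℕ} (hs : s ≤ n) {g : G}
    (hg : g ∈ Subgroup.closure {x : G | ∃ y : G, y ^ p ^ s = x}) :
    g ^ p ^ (n - s) ∈ Subgroup.center G := by
  have hp : p.Prime := Fact.out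
  rw [Subgroup.mem_center_iff]
  intro z
  have h1 := cb_mem_of_mem_pow_closure hp2 hG A haA ha hb s hg z
  have hA' : cb z g ∈ A :=
    (Subgroup.zpowers_le.mpr (A.pow_mem (cb_mem A haA b) _)) h1
  obtain ⟨u, -, hnorm⟩ := exact_norm hp2 hG A g (n - s)
  have h2 := hnorm _ hA'
  have h3 : cb z g ^ p ^ (n - s) = 1 := by
    apply orderOf_dvd_iff_pow_eq_one.mp
    have := orderOf_dvd_of_mem_zpowers h1
    rwa [orderOf_pow' _ (pow_pos hp.pos s).ne', hdn, Nat.gcd_eq_right (pow_dvd_pow p hs),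
      Nat.pow_div hs hp.pos] at this
  have h4 : cb z g * g = z * g * z⁻¹ := by
    unfold cb
    group
  rw [h4, conj_pow, pow_mul, h3, one_pow, one_mul] at h2
  exact mul_inv_eq_iff_eq_mul.mp h2

theorem index_le_of_pow_mem_center (hp2 : p ≠ 2) (hG : IsPGroup p G) (A : Subgroup G)
    [hn : A.Normal] [hA : IsCyclic A] {a b : G} (haA : a ∈ A) (ha : ∀ x ∈ A, ∃ l : ℕ, x = a ^ l)
    (hb : Cov A b) {n : ℕ} (hdn : orderOf (cb a b) = p ^ n) {e : ℕ} (he : e ≤ n) {g : G}
    (hg : g ^ p ^ e ∈ Subgroup.center G) :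
    (Subgroup.centralizer ({g} : Set G)).index ≤ p ^ e := by
  have hp : p.Prime := Fact.out
  have hmem : g ∈ Subgroup.closure {x : G | ∃ y : G, y ^ p ^ (n - e) = x} := by
    have hpn : p ^ n = p ^ (n - e) * p ^ e := by
      rw [← pow_add]
      congr 1
      omega
    obtain ⟨x, hx, i', rfl⟩ := hb g
    obtain ⟨u, hu, hnorm⟩ := exact_norm hp2 hG A (b ^ i') e
    have h1 := hnorm x hx
    have hcen := (mem_center_iff' A hb _).mp hg
    have h2 := (pow_mem_C_cov hp2 hG A haA ha hx i' (p ^ e)).mp hcen.1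
    rw [← orderOf_dvd_iff_pow_eq_one, hdn, hpn] at h2
    obtain ⟨i'', rfl⟩ := (Nat.mul_dvd_mul_iff_right (pow_pos hp.pos e)).mp h2
    have h3 : Commute (x ^ (p ^ e * u)) b := by
      have e1 : x ^ (p ^ e * u) =
          (x * b ^ (p ^ (n - e) * i'')) ^ p ^ e * ((b ^ (p ^ (n - e) * i'')) ^ p ^ e)⁻¹ := by
        rw [h1, mul_inv_cancel_right]
      rw [e1]
      exact hcen.2.mul_left ((((Commute.refl b).pow_left _).pow_left _).inv_left)
    obtain ⟨c, rfl⟩ := ha x hx
    rw [← cb_eq_one_iff, cb_pow A (A.pow_mem haA c) b, cb_pow A haA b c, ← pow_mul,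
      ← orderOf_dvd_iff_pow_eq_one, hdn, hpn] at h3
    have e3 : c * (p ^ e * u) = c * u * p ^ e := by ring
    rw [e3] at h3
    have h4 : p ^ (n - e) ∣ c * u := (Nat.mul_dvd_mul_iff_right (pow_pos hp.pos e)).mp h3
    have hcop : Nat.Coprime (p ^ (n - e)) u :=
      Nat.Coprime.pow_left _ ((Nat.Prime.coprime_iff_not_dvd hp).mpr hu)
    obtain ⟨c', rfl⟩ := hcop.dvd_of_dvd_mul_right h4
    apply Subgroup.mul_mem
    · apply Subgroup.subset_closure
      exact ⟨a ^ c', by rw [← pow_mul, mul_comm]⟩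
    · apply Subgroup.subset_closure
      exact ⟨b ^ i'', by rw [← pow_mul, mul_comm]⟩
  have h := (mem_pow_closure_iff hp2 hG A haA ha hb hdn (Nat.sub_le n e) g).mp hmem
  have e1 : n - (n - e) = e := by omega
  rwa [e1] at h

theorem large_zpowers (hp2 : p ≠ 2) (hG : IsPGroup p G) (A : Subgroup G)
    [hn : A.Normal] [hA : IsCyclic A] {a b : G} (haA : a ∈ A) (ha : ∀ x ∈ A, ∃ l : ℕ, x = a ^ l)
    (hb : Cov A b)
    (hmaxval : Cfsg.maxCentralizerProduct G = Nat.card ↥(Subgroup.center G) * Nat.card G) (g : G) :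
    Cfsg.IsCentralizerLarge (Subgroup.center G ⊔ Subgroup.zpowers g) := by
  have hp : p.Prime := Fact.out
  rw [isCentralizerLarge_iff, hmaxval]
  unfold meas
  have hcen : Subgroup.centralizer ((Subgroup.center G ⊔ Subgroup.zpowers g : Subgroup G) : Set G) =
      Subgroup.centralizer ({g} : Set G) := by
    rw [centralizer_sup, Subgroup.centralizer_eq_top_iff_subset.mpr subset_rfl, top_inf_eq]
    ext x
    rw [Subgroup.mem_centralizer_iff, Subgroup.mem_centralizer_iff]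
    constructor
    · intro h k hk
      rw [Set.mem_singleton_iff] at hk
      rw [hk]
      exact h g (Subgroup.mem_zpowers g)
    · intro h k hk
      obtain ⟨z, rfl⟩ := Subgroup.mem_zpowers_iff.mp hk
      have : Commute g x := h g rfl
      exact (this.zpow_left z).eq
  rw [hcen]
  obtain ⟨i, hi, hlevZ⟩ := level_A hG (Subgroup.zpowers g) (Subgroup.mem_zpowers g)
    (fun x hx => by
      obtain ⟨l, hl⟩ := mem_zpowers_nat hx
      exact ⟨l, hl.symm⟩) (Subgroup.center G)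
  obtain ⟨t, ht⟩ := hG.index (Subgroup.centralizer ({g} : Set G))
  obtain ⟨n, hdn⟩ := exists_orderOf_eq_prime_pow_iff.mpr (hG (cb a b))
  have htn : t ≤ n := by
    have h3 : g ∈ Subgroup.closure {x : G | ∃ y : G, y ^ p ^ 0 = x} :=
      Subgroup.subset_closure ⟨g, by simp⟩
    have h4 := (mem_pow_closure_iff hp2 hG A haA ha hb hdn (Nat.zero_le n) g).mp h3
    rw [ht, Nat.sub_zero, Nat.pow_le_pow_iff_right hp.one_lt] at h4
    exact h4
  have hit : i ≤ t := by
    have h1 : g ∈ Subgroup.closure {x : G | ∃ y : G, y ^ p ^ (n - t) = x} := by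
      rw [mem_pow_closure_iff hp2 hG A haA ha hb hdn (Nat.sub_le n t) g, ht]
      have e1 : n - (n - t) = t := by omega
      rw [e1]
    have h2 := pow_mem_center_of_mem hp2 hG A haA ha hb hdn (Nat.sub_le n t) h1
    have e1 : n - (n - t) = t := by omega
    rw [e1] at h2
    exact (Nat.pow_dvd_pow_iff_le_right hp.one_lt).mp ((hlevZ _).mp h2)
  have hti : t ≤ i := by
    have h1 : g ^ p ^ i ∈ Subgroup.center G := (hlevZ (p ^ i)).mpr dvd_rfl
    have h2 := index_le_of_pow_mem_center hp2 hG A haA ha hb hdn (hit.trans htn) h1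
    rw [ht] at h2
    exact (Nat.pow_le_pow_iff_right hp.one_lt).mp h2
  have hcard := card_mul_relIndex' (le_sup_left : Subgroup.center G ≤
    Subgroup.center G ⊔ Subgroup.zpowers g)
  rw [Subgroup.relIndex_sup_left, hi] at hcard
  have hcg := Subgroup.card_mul_index (Subgroup.centralizer ({g} : Set G))
  rw [ht] at hcg
  have hit' : i = t := le_antisymm hit hti
  rw [← hcard, ← hcg, hit']
  ring

theorem large_of_center_le (hp2 : p ≠ 2) (hG : IsPGroup p G) (A : Subgroup G)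
    [hn : A.Normal] [hA : IsCyclic A] {a b : G} (haA : a ∈ A) (ha : ∀ x ∈ A, ∃ l : ℕ, x = a ^ l)
    (hb : Cov A b)
    (hmaxval : Cfsg.maxCentralizerProduct G = Nat.card ↥(Subgroup.center G) * Nat.card G)
    {R : Subgroup G} (hR : Subgroup.center G ≤ R) : Cfsg.IsCentralizerLarge R := by
  have hZ : Cfsg.IsCentralizerLarge (Subgroup.center G) := by
    have := large_zpowers hp2 hG A haA ha hb hmaxval (1 : G)
    rwa [Subgroup.zpowers_one_eq_bot, sup_bot_eq] at this
  obtain ⟨M, hZM, hM⟩ := Finite.exists_le_maximal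
    (p := fun M : Subgroup G => Cfsg.IsCentralizerLarge M ∧ M ≤ R) (a := Subgroup.center G)
    ⟨hZ, hR⟩
  have hMR : M = R := by
    by_contra hne
    obtain ⟨g, hgR, hgM⟩ := SetLike.exists_of_lt (lt_of_le_of_ne hM.prop.2 hne)
    have hl := (large_sup_inf hM.prop.1 (large_zpowers hp2 hG A haA ha hb hmaxval g)).1
    have hle : M ⊔ (Subgroup.center G ⊔ Subgroup.zpowers g) ≤ R :=
      sup_le hM.prop.2 (sup_le hR (Subgroup.zpowers_le.mpr hgR))
    have h1 := hM.le_of_ge ⟨hl, hle⟩ le_sup_left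
    exact hgM (h1 ((le_sup_right : Subgroup.center G ⊔ Subgroup.zpowers g ≤ _)
      ((le_sup_right : Subgroup.zpowers g ≤ _) (Subgroup.mem_zpowers g))))
  rw [← hMR]
  exact hM.prop.1

theorem maxval (hp2 : p ≠ 2) (hG : IsPGroup p G) (A : Subgroup G)
    [hn : A.Normal] [hA : IsCyclic A] {a b : G} (haA : a ∈ A) (ha : ∀ x ∈ A, ∃ l : ℕ, x = a ^ l)
    (hb : Cov A b) :
    Cfsg.maxCentralizerProduct G = Nat.card ↥(Subgroup.center G) * Nat.card G := by
  have hp : p.Prime := Fact.out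
  rw [← max_eq, (cl_main hp2 hG A haA ha hb).1]
  have k1 := Subgroup.card_mul_index (Subgroup.center G)
  rw [index_center hp2 hG A haA ha hb] at k1
  have k2 := Subgroup.card_mul_index (commutator G)
  rw [card_commutator hG A haA ha hb] at k2
  have hpos : 0 < orderOf (cb a b) ^ 2 := pow_pos (orderOf_pos _) 2
  apply Nat.eq_of_mul_eq_mul_right hpos
  calc (commutator G).index ^ 2 * orderOf (cb a b) ^ 2
      = (orderOf (cb a b) * (commutator G).index) ^ 2 := by ring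
    _ = Nat.card G * Nat.card G := by rw [k2, sq]
    _ = Nat.card ↥(Subgroup.center G) * orderOf (cb a b) ^ 2 * Nat.card G := by rw [k1]
    _ = Nat.card ↥(Subgroup.center G) * Nat.card G * orderOf (cb a b) ^ 2 := by ring

theorem centralizerLarge_iff (hp2 : p ≠ 2) (hG : IsPGroup p G) (A : Subgroup G)
    [hn : A.Normal] [hA : IsCyclic A] {a b : G} (haA : a ∈ A) (ha : ∀ x ∈ A, ∃ l : ℕ, x = a ^ l)
    (hb : Cov A b) (R : Subgroup G) :
    Cfsg.IsCentralizerLarge R ↔ Subgroup.center G ≤ R := by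
  constructor
  · intro h
    have h2 := (large_centralizer h).2
    rw [h2]
    exact Subgroup.center_le_centralizer _
  · intro h
    exact large_of_center_le hp2 hG A haA ha hb (maxval hp2 hG A haA ha hb) h

theorem abelian_eq (hp2 : p ≠ 2) (hG : IsPGroup p G) (A : Subgroup G)
    [hn : A.Normal] [hA : IsCyclic A] {a b : G} (haA : a ∈ A) (ha : ∀ x ∈ A, ∃ l : ℕ, x = a ^ l)
    (hb : Cov A b) (K : Subgroup G) (hK : IsMulCommutative ↥K) (hZ : Subgroup.center G ≤ K) :
    K = Subgroup.centralizer (K : Set G) ⊓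
      Subgroup.centralizer (Subgroup.centralizer (K : Set G) : Set G) := by
  have hl := large_of_center_le hp2 hG A haA ha hb (maxval hp2 hG A haA ha hb) hZ
  have h2 := (large_centralizer hl).2
  have hKC : K ≤ Subgroup.centralizer (K : Set G) := by
    intro x hx
    rw [Subgroup.mem_centralizer_iff]
    intro y hy
    exact (isMulComm_iff K).mp hK y hy x hx
  apply le_antisymm
  · exact le_inf hKC (le_of_eq h2)
  · exact inf_le_right.trans (le_of_eq h2.symm)

end cl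

end Cfsg.Agent.Lib.Helper20.Metacyc
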