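import Mathlib
import Cfsg.Agent.S3869
import Cfsg.Agent.S3749
import Cfsg.Agent.Lib.Helper19.RelIndex

set_option autoImplicit false

namespace Cfsg.Agent.Lib.Helper20.MinStruct

open Cfsg Cfsg.Agent.Lib.Helper10.Coprime

section

variable {G : Type*} [Group G] [Finite G]

theorem exists_min_normal (N₀ : Subgroup G) (hN₀ : N₀.Normal) (hne : N₀ ≠ ⊥) :
    ∃ N : Subgroup G, N.Normal ∧ N ≠ ⊥ ∧ N ≤ N₀ ∧
      ∀ B : Subgroup G, B.Normal → B ≤ N → B = ⊥ ∨ B = N := by
  classical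
  have hex : ∃ n : ℕ, ∃ N : Subgroup G, N.Normal ∧ N ≠ ⊥ ∧ N ≤ N₀ ∧ Nat.card N = n :=
    ⟨_, N₀, hN₀, hne, le_rfl, rfl⟩
  obtain ⟨N, hN, hN1, hNle, hcard⟩ := Nat.find_spec hex
  refine ⟨N, hN, hN1, hNle, fun B hB hBN => ?_⟩
  by_contra hcon
  rw [not_or] at hcon
  have hlt : Nat.card B < Nat.card N := by
    by_contra hge
    rw [not_lt] at hge
    exact hcon.2 (Subgroup.eq_of_le_of_card_ge hBN hge)
  exact Nat.find_min hex (hcard ▸ hlt) ⟨B, hB, hcon.1, hBN.trans hNle, rfl⟩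

theorem comm_of_normalizes (N R : Subgroup G) [hNn : N.Normal] (hdisj : N ⊓ R = ⊥)
    (K : Subgroup G) (hKN : K ≤ N) (hK : K ≤ Subgroup.normalizer (R : Set G)) :
    ∀ a ∈ K, ∀ b ∈ R, a * b = b * a := by
  intro a ha b hb
  have h1 : a * b * a⁻¹ * b⁻¹ ∈ N ⊓ R := by
    refine ⟨?_, ?_⟩
    · have : a * b * a⁻¹ * b⁻¹ = a * (b * a⁻¹ * b⁻¹) := by group
      rw [this]
      exact N.mul_mem (hKN ha) (hNn.conj_mem _ (N.inv_mem (hKN ha)) b)
    · exact R.mul_mem ((Subgroup.mem_normalizer_iff.1 (hK ha) b).1 hb) (R.inv_mem hb)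
  rw [hdisj, Subgroup.mem_bot] at h1
  calc a * b = (a * b * a⁻¹ * b⁻¹) * (b * a) := by group
    _ = b * a := by rw [h1, one_mul]

theorem core {p : ℕ} [hp : Fact p.Prime] (N : Subgroup G) [hNn : N.Normal] (P : Sylow p G)
    (hNP : N ⊔ (P : Subgroup G) = ⊤) (hNp : ¬ p ∣ Nat.card N) (hN1 : N ≠ ⊥)
    (hNmin : ∀ B : Subgroup G, B.Normal → B ≤ N → B = ⊥ ∨ B = N)
    (hX : ∀ H : Subgroup G, H ≠ ⊤ → ∀ R : Subgroup G, R ≤ (P : Subgroup G) → R ≤ H →
      ¬ p ∣ R.relIndex H → H ≤ Subgroup.normalizer (R : Set G))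
    (hY : (P : Subgroup G) ⊓ Subgroup.centralizer (N : Set G) = ⊥)
    (hP1 : (P : Subgroup G) ≠ ⊥) :
    ∃ q : ℕ, q.Prime ∧ q ≠ p ∧ Nat.card G = p * q ^ orderOf (q : ZMod p) ∧
      ∃ A : Subgroup G, A.Normal ∧ Nat.card ↥A = q ^ orderOf (q : ZMod p) ∧
        Cfsg.IsElementaryAbelian q A ∧
        ∀ B : Subgroup G, B.Normal → B ≤ A → B = ⊥ ∨ B = A := by
  classical
  have hpp : p.Prime := hp.out
  obtain ⟨k, hk⟩ := IsPGroup.iff_card.1 P.isPGroup'
  have hdisj : N ⊓ (P : Subgroup G) = ⊥ := by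
    apply Subgroup.inf_eq_bot_of_coprime
    rw [hk]
    exact Nat.Coprime.pow_right k ((Nat.Prime.coprime_iff_not_dvd hpp).2 hNp).symm
  have step1 : ∃ q : ℕ, q.Prime ∧ ∃ Q : Subgroup G, Q ≤ N ∧ IsPGroup q Q ∧
      (P : Subgroup G) ≤ Subgroup.normalizer (Q : Set G) ∧ Q ⊔ (P : Subgroup G) = ⊤ := by
    by_contra hcon
    have hall : ∀ q : ℕ, q.Prime → ∀ Q : Subgroup G, Q ≤ N → IsPGroup q Q →
        (P : Subgroup G) ≤ Subgroup.normalizer (Q : Set G) → Q ⊔ (P : Subgroup G) ≠ ⊤ := by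
      intro q hq Q hQN hQ hPQ htop
      exact hcon ⟨q, hq, Q, hQN, hQ, hPQ, htop⟩
    have hdvd : Nat.card N ∣ Nat.card ↥(N ⊓ Subgroup.centralizer ((P : Subgroup G) : Set G)) := by
      rw [Nat.dvd_iff_prime_pow_dvd_dvd]
      intro q j hq hqj
      haveI : Fact q.Prime := ⟨hq⟩
      obtain ⟨Q, hQ⟩ := Cfsg.Agent.S3749.exists_inv_sylow (q := q) (P : Subgroup G) N
        P.isPGroup' hNp
      have hQN : (Q : Subgroup N).map N.subtype ≤ N := Subgroup.map_subtype_le _
      have hQp : IsPGroup q ((Q : Subgroup N).map N.subtype) := Q.isPGroup'.map _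
      have hPQ : (P : Subgroup G) ≤
          Subgroup.normalizer (((Q : Subgroup N).map N.subtype : Subgroup G) : Set G) :=
        fun g hg => mem_normalizer_of_conj_mem (hQ g hg)
      have hne := hall q hq _ hQN hQp hPQ
      have hnorm := hX _ hne (P : Subgroup G) le_rfl le_sup_right (fun hdv =>
        P.not_dvd_index (dvd_trans hdv (Subgroup.relIndex_dvd_index_of_le le_sup_right)))
      have hcomm := comm_of_normalizes N (P : Subgroup G) hdisj _ hQN
        (le_sup_left.trans hnorm)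
      have hle : (Q : Subgroup N).map N.subtype ≤
          N ⊓ Subgroup.centralizer ((P : Subgroup G) : Set G) := by
        intro a ha
        refine Subgroup.mem_inf.2 ⟨hQN ha, Subgroup.mem_centralizer_iff.2 ?_⟩
        intro b hb
        exact (hcomm a ha b hb).symm
      have hcardQ : Nat.card ((Q : Subgroup N).map N.subtype) =
          q ^ (Nat.card N).factorization q := by
        rw [Subgroup.card_subtype]
        exact Q.card_eq_multiplicity
      have h1 : q ^ j ∣ q ^ (Nat.card N).factorization q :=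
        pow_dvd_pow q ((Nat.Prime.pow_dvd_iff_le_factorization hq Nat.card_pos.ne').1 hqj)
      exact dvd_trans h1 (hcardQ ▸ Subgroup.card_dvd_of_le hle)
    have hCN : N ⊓ Subgroup.centralizer ((P : Subgroup G) : Set G) = N :=
      Subgroup.eq_of_le_of_card_ge inf_le_left (Nat.le_of_dvd Nat.card_pos hdvd)
    have hNC : N ≤ Subgroup.centralizer ((P : Subgroup G) : Set G) := by
      rw [← hCN]; exact inf_le_right
    have hPC : (P : Subgroup G) ≤ Subgroup.centralizer (N : Set G) :=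
      Subgroup.le_centralizer_iff.1 hNC
    exact hP1 (by rw [← hY]; exact (inf_eq_left.2 hPC).symm)
  obtain ⟨q, hq, Q, hQN, hQ, hPQ, hQP⟩ := step1
  haveI : Fact q.Prime := ⟨hq⟩
  have hNQ : N = Q := by
    apply le_antisymm _ hQN
    intro n hn
    obtain ⟨a, ha, b, hb, hab⟩ := Cfsg.Agent.Lib.Helper19.exists_mul_of_mem_sup Q
      (P : Subgroup G) hPQ n (hQP ▸ Subgroup.mem_top n)
    have hbN : b ∈ N ⊓ (P : Subgroup G) := by
      refine ⟨?_, hb⟩
      have : b = a⁻¹ * n := by rw [hab]; group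
      rw [this]
      exact N.mul_mem (N.inv_mem (hQN ha)) hn
    rw [hdisj, Subgroup.mem_bot] at hbN
    rw [hab, hbN, mul_one]
    exact ha
  have hNq : IsPGroup q N := hNQ ▸ hQ
  haveI hNnt : Nontrivial ↥N := (Subgroup.nontrivial_iff_ne_bot N).2 hN1
  obtain ⟨d, hd⟩ := IsPGroup.iff_card.1 hNq
  have hd0 : d ≠ 0 := by
    rintro rfl
    rw [pow_zero] at hd
    exact hN1 (Subgroup.card_eq_one.1 hd)
  have hqN : q ∣ Nat.card N := by rw [hd]; exact dvd_pow_self q hd0
  have hqp : q ≠ p := by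
    rintro rfl
    exact hNp hqN
  have hAc : ∀ a ∈ N, ∀ b ∈ N, a * b = b * a := by
    have hBn : (N ⊓ Subgroup.centralizer (N : Set G)).Normal := inferInstance
    have hBne : N ⊓ Subgroup.centralizer (N : Set G) ≠ ⊥ := by
      haveI := hNq.center_nontrivial
      obtain ⟨z, hz⟩ := exists_ne (1 : Subgroup.center ↥N)
      intro hbot
      have hzmem : ((z : ↥N) : G) ∈ N ⊓ Subgroup.centralizer (N : Set G) := by
        refine Subgroup.mem_inf.2 ⟨(z : ↥N).2, Subgroup.mem_centralizer_iff.2 ?_⟩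
        intro n hn
        have := (Subgroup.mem_center_iff.1 z.2) ⟨n, hn⟩
        exact congrArg Subtype.val this
      rw [hbot, Subgroup.mem_bot] at hzmem
      exact hz (Subtype.ext (Subtype.ext hzmem))
    rcases hNmin _ hBn inf_le_left with h | h
    · exact absurd h hBne
    · intro a ha b hb
      have hb' : b ∈ Subgroup.centralizer (N : Set G) := by
        have : b ∈ N ⊓ Subgroup.centralizer (N : Set G) := by rw [h]; exact hb
        exact (Subgroup.mem_inf.1 this).2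
      exact (Subgroup.mem_centralizer_iff.1 hb' a ha)
  have hAq : ∀ a ∈ N, a ^ q = 1 := by
    obtain ⟨Ω, hΩ⟩ : ∃ Ω : Subgroup G, ∀ g, g ∈ Ω ↔ g ∈ N ∧ g ^ q = 1 :=
      ⟨{ carrier := {g | g ∈ N ∧ g ^ q = 1}
         one_mem' := ⟨N.one_mem, one_pow q⟩
         mul_mem' := by
           rintro a b ⟨ha, ha'⟩ ⟨hb, hb'⟩
           refine ⟨N.mul_mem ha hb, ?_⟩
           rw [(show Commute a b from hAc a ha b hb).mul_pow, ha', hb', one_mul]
         inv_mem' := by
           rintro a ⟨ha, ha'⟩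
           exact ⟨N.inv_mem ha, by rw [inv_pow, ha', inv_one]⟩ }, fun g => Iff.rfl⟩
    have hΩn : Ω.Normal := by
      constructor
      intro n hn g
      rw [hΩ] at hn ⊢
      exact ⟨hNn.conj_mem n hn.1 g, by rw [conj_pow, hn.2]; group⟩
    have hΩN : Ω ≤ N := fun g hg => ((hΩ g).1 hg).1
    have hΩne : Ω ≠ ⊥ := by
      obtain ⟨x, hx⟩ := exists_prime_orderOf_dvd_card' (G := ↥N) q hqN
      intro hbot
      have hxΩ : (x : G) ∈ Ω := by
        rw [hΩ]
        refine ⟨x.2, ?_⟩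
        have : x ^ q = 1 := by rw [← hx, pow_orderOf_eq_one]
        have := congrArg Subtype.val this
        simpa using this
      rw [hbot, Subgroup.mem_bot] at hxΩ
      have hx1 : x = 1 := Subtype.ext hxΩ
      rw [hx1, orderOf_one] at hx
      exact hq.one_lt.ne hx
    rcases hNmin Ω hΩn hΩN with h | h
    · exact absurd h hΩne
    · intro a ha
      have : a ∈ Ω := h ▸ ha
      exact ((hΩ a).1 this).2
  have hEA : Cfsg.IsElementaryAbelian q N :=
    ⟨⟨⟨fun a b => Subtype.ext (hAc a a.2 b b.2)⟩⟩, hAq⟩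
  have hk0 : k ≠ 0 := by
    rintro rfl
    rw [pow_zero] at hk
    exact hP1 (Subgroup.card_eq_one.1 hk)
  have hk1 : k = 1 := by
    have hdv : p ^ (k - 1) ∣ Nat.card (P : Subgroup G) := by
      rw [hk]; exact pow_dvd_pow p (Nat.sub_le k 1)
    obtain ⟨K, hK⟩ := Sylow.exists_subgroup_card_pow_prime p hdv
    obtain ⟨P₁, hP₁⟩ : ∃ P₁ : Subgroup G, P₁ = K.map (P : Subgroup G).subtype := ⟨_, rfl⟩
    have hP₁P : P₁ ≤ (P : Subgroup G) := hP₁ ▸ Subgroup.map_subtype_le _
    have hP₁card : Nat.card P₁ = p ^ (k - 1) := by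
      rw [hP₁, Subgroup.card_subtype, hK]
    have hP₁N : P₁ ≤ Subgroup.normalizer (N : Set G) := by
      rw [Subgroup.normalizer_eq_top_iff.2 hNn]; exact le_top
    have hdisj₁ : N ⊓ P₁ = ⊥ := by
      rw [eq_bot_iff, ← hdisj]
      exact inf_le_inf_left N hP₁P
    have hne : N ⊔ P₁ ≠ ⊤ := by
      intro htop
      have hPle : (P : Subgroup G) ≤ P₁ := by
        intro b hb
        obtain ⟨n, hn, b₁, hb₁, hnb⟩ := Cfsg.Agent.Lib.Helper19.exists_mul_of_mem_sup N P₁
          hP₁N b (htop ▸ Subgroup.mem_top b)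
        have hnP : n ∈ N ⊓ (P : Subgroup G) := by
          refine ⟨hn, ?_⟩
          have : n = b * b₁⁻¹ := by rw [hnb]; group
          rw [this]
          exact Subgroup.mul_mem _ hb (Subgroup.inv_mem _ (hP₁P hb₁))
        rw [hdisj, Subgroup.mem_bot] at hnP
        rw [hnb, hnP, one_mul]
        exact hb₁
      have hle := Subgroup.card_le_of_le hPle
      rw [hk, hP₁card] at hle
      have := (Nat.pow_le_pow_iff_right hpp.one_lt).1 hle
      omega
    have hrel : ¬ p ∣ P₁.relIndex (N ⊔ P₁) := by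
      rw [Cfsg.Agent.Lib.Helper19.relIndex_sup_of_le_normalizer N P₁ hP₁N]
      intro hdv
      exact hNp (dvd_trans hdv (Subgroup.relIndex_dvd_card P₁ N))
    have hnorm := hX _ hne P₁ hP₁P le_sup_right hrel
    have hcomm := comm_of_normalizes N P₁ hdisj₁ N le_rfl (le_sup_left.trans hnorm)
    have hP₁C : P₁ ≤ (P : Subgroup G) ⊓ Subgroup.centralizer (N : Set G) := by
      intro b hb
      refine Subgroup.mem_inf.2 ⟨hP₁P hb, Subgroup.mem_centralizer_iff.2 ?_⟩
      intro n hn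
      exact hcomm n hn b hb
    rw [hY, le_bot_iff] at hP₁C
    rw [hP₁C, Subgroup.card_bot] at hP₁card
    have : k - 1 = 0 := by
      by_contra hne0
      have := Nat.one_lt_pow hne0 hpp.one_lt
      omega
    omega
  have hidx : N.index = p := by
    rw [← Subgroup.relIndex_top_right, ← hNP, sup_comm, Subgroup.relIndex_sup_right,
      ← Subgroup.inf_relIndex_right, hdisj, Subgroup.relIndex_bot_left, hk, hk1, pow_one]
  have hna : ¬ IsMulCommutative G := by
    intro hc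
    apply hP1
    rw [← hY]
    refine (inf_eq_left.2 ?_).symm
    intro b _
    rw [Subgroup.mem_centralizer_iff]
    intro n _
    exact hc.1.1 n b
  have hres := Cfsg.Agent.S3869.result hq hqp hna N hEA hidx hNmin
  refine ⟨q, hq, hqp, ?_, N, hNn, hres.1, hEA, hNmin⟩
  rw [← Subgroup.card_mul_index N, hres.1, hidx, mul_comm]

theorem normal_inf_centralizer (N : Subgroup G) [hNn : N.Normal]
    (P : Subgroup G) (hNP : N ⊔ P = ⊤) :
    (P ⊓ Subgroup.centralizer (N : Set G)).Normal := by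
  rw [← Subgroup.normalizer_eq_top_iff, eq_top_iff, ← hNP]
  refine sup_le ?_ ?_
  · intro n hn
    apply mem_normalizer_of_conj_mem
    intro c hc
    have hc2 := (Subgroup.mem_inf.1 hc).2
    have : n * c * n⁻¹ = c := by
      rw [Subgroup.mem_centralizer_iff.1 hc2 n hn]; group
    rw [this]; exact hc
  · intro b hb
    apply mem_normalizer_of_conj_mem
    intro c hc
    have hc1 := (Subgroup.mem_inf.1 hc).1
    have hc2 := (Subgroup.mem_inf.1 hc).2
    exact Subgroup.mem_inf.2 ⟨P.mul_mem (P.mul_mem hb hc1) (P.inv_mem hb),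
      (Subgroup.normal_centralizer (H := N)).conj_mem c hc2 b⟩

theorem exists_proper_normal [Nontrivial G] (hns : ¬ IsSimpleGroup G) :
    ∃ N₀ : Subgroup G, N₀.Normal ∧ N₀ ≠ ⊥ ∧ N₀ ≠ ⊤ := by
  by_contra h
  apply hns
  refine ⟨fun H hH => ?_⟩
  by_contra hcon
  rw [not_or] at hcon
  exact h ⟨H, hH, hcon.1, hcon.2⟩

end

end Cfsg.Agent.Lib.Helper20.MinStruct
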