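import Mathlib
import Cfsg.Agent.S3772
import Cfsg.Agent.Lib.Helper9.Coprime
import Cfsg.Agent.Lib.Helper10.Coprime

set_option autoImplicit false

namespace Cfsg.Agent.Lib.Helper20.Omega

open scoped commutatorElement

theorem pow_mul_class_two_aux {X : Type*} [Group X] (x y : X)
    (hy : Commute (y * x * y⁻¹ * x⁻¹) y) (k : ℕ) :
    y ^ k * x = (y * x * y⁻¹ * x⁻¹) ^ k * x * y ^ k := by
  obtain ⟨c, hc⟩ : ∃ c, c = y * x * y⁻¹ * x⁻¹ := ⟨_, rfl⟩
  rw [← hc] at hy ⊢
  have hyx : y * x = c * x * y := by rw [hc]; group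
  induction k with
  | zero => simp
  | succ k ih =>
    have hyc : Commute y (c ^ k) := (hy.pow_left k).symm
    calc y ^ (k + 1) * x = y * (y ^ k * x) := by rw [pow_succ', mul_assoc]
      _ = y * (c ^ k * x * y ^ k) := by rw [ih]
      _ = (y * c ^ k) * x * y ^ k := by simp only [mul_assoc]
      _ = (c ^ k * y) * x * y ^ k := by rw [hyc.eq]
      _ = c ^ k * (y * x) * y ^ k := by simp only [mul_assoc]
      _ = c ^ k * (c * x * y) * y ^ k := by rw [hyx]
      _ = c ^ (k + 1) * x * y ^ (k + 1) := by rw [pow_succ, pow_succ']; simp only [mul_assoc]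

theorem mul_pow_class_two {X : Type*} [Group X] (x y : X)
    (hx : Commute (y * x * y⁻¹ * x⁻¹) x) (hy : Commute (y * x * y⁻¹ * x⁻¹) y) (k : ℕ) :
    (x * y) ^ k = (y * x * y⁻¹ * x⁻¹) ^ (k.choose 2) * x ^ k * y ^ k := by
  have haux := pow_mul_class_two_aux x y hy
  obtain ⟨c, hc⟩ : ∃ c, c = y * x * y⁻¹ * x⁻¹ := ⟨_, rfl⟩
  rw [← hc] at hx hy haux ⊢
  induction k with
  | zero => simp
  | succ k ih =>
    have hxc : Commute (x ^ k) (c ^ k) := ((hx.pow_left k).pow_right k).symm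
    have hch : (k + 1).choose 2 = k.choose 2 + k := by
      rw [Nat.choose_succ_succ' k 1, Nat.choose_one_right, add_comm]
    calc (x * y) ^ (k + 1) = (x * y) ^ k * (x * y) := pow_succ _ _
      _ = c ^ (k.choose 2) * x ^ k * y ^ k * (x * y) := by rw [ih]
      _ = c ^ (k.choose 2) * x ^ k * (y ^ k * x) * y := by simp only [mul_assoc]
      _ = c ^ (k.choose 2) * x ^ k * (c ^ k * x * y ^ k) * y := by rw [haux k]
      _ = c ^ (k.choose 2) * (x ^ k * c ^ k) * x * y ^ k * y := by simp only [mul_assoc]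
      _ = c ^ (k.choose 2) * (c ^ k * x ^ k) * x * y ^ k * y := by rw [hxc.eq]
      _ = c ^ ((k + 1).choose 2) * x ^ (k + 1) * y ^ (k + 1) := by
        rw [hch, pow_add, pow_succ x, pow_succ y]; simp only [mul_assoc]

def expo (p : ℕ) : ℕ := if p = 2 then 4 else p

theorem mul_pow_expo {X : Type*} [Group X] {p : ℕ} [hp : Fact p.Prime] (x y : X)
    (hx : Commute (y * x * y⁻¹ * x⁻¹) x) (hy : Commute (y * x * y⁻¹ * x⁻¹) y)
    (hyp : Commute (y ^ p) x) : (x * y) ^ expo p = x ^ expo p * y ^ expo p := by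
  have h1 := pow_mul_class_two_aux x y hy p
  have h2 := mul_pow_class_two x y hx hy (expo p)
  obtain ⟨c, hc⟩ : ∃ c, c = y * x * y⁻¹ * x⁻¹ := ⟨_, rfl⟩
  rw [← hc] at h1 h2
  have hcp : c ^ p = 1 := by
    rw [hyp.eq] at h1
    have h3 : c ^ p * (x * y ^ p) = 1 * (x * y ^ p) := by
      rw [one_mul, ← mul_assoc]; exact h1.symm
    exact mul_right_cancel h3
  have hchoose : c ^ ((expo p).choose 2) = 1 := by
    unfold expo
    split_ifs with h4
    · have h5 : Nat.choose 4 2 = p * 3 := by rw [h4]; decide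
      rw [h5, pow_mul, hcp, one_pow]
    · have hdvd : p ∣ p.choose 2 :=
        hp.out.dvd_choose_self (by norm_num) (lt_of_le_of_ne hp.out.two_le (Ne.symm h4))
      obtain ⟨m, hm⟩ := hdvd
      rw [hm, pow_mul, hcp, one_pow]
  rw [h2, hchoose, one_mul]

theorem expo_eq_pow (p : ℕ) {X : Type*} [Group X] (x : X) :
    ∃ j : ℕ, x ^ expo p = (x ^ j) ^ p := by
  unfold expo
  split_ifs with h
  · refine ⟨2, ?_⟩
    rw [h, ← pow_mul]
  · exact ⟨1, by rw [pow_one]⟩

def frat {X : Type*} [Group X] (U : Subgroup X) : Subgroup X := (frattini ↥U).map U.subtype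

theorem frat_le {X : Type*} [Group X] (U : Subgroup X) : frat U ≤ U := Subgroup.map_subtype_le _

theorem mem_frat_iff {X : Type*} [Group X] (U : Subgroup X) (x : X) :
    x ∈ frat U ↔ ∃ hx : x ∈ U, (⟨x, hx⟩ : U) ∈ frattini ↥U := by
  constructor
  · intro h
    obtain ⟨y, hy, rfl⟩ := Subgroup.mem_map.1 h
    exact ⟨y.2, hy⟩
  · rintro ⟨hx, h⟩
    exact Subgroup.mem_map.2 ⟨_, h, rfl⟩

theorem pow_mem_frat {X : Type*} [Group X] {p : ℕ} [Fact p.Prime] {U : Subgroup X} [Finite U]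
    (hU : IsPGroup p U) {x : X} (hx : x ∈ U) : x ^ p ∈ frat U := by
  rw [mem_frat_iff]
  refine ⟨U.pow_mem hx p, ?_⟩
  apply Cfsg.Agent.S3772.mem_frattini_of_forall
  intro M hM
  exact (Cfsg.Agent.S3772.pgroup_coatom hU M hM).1 ⟨x, hx⟩

theorem comm_mem_frat {X : Type*} [Group X] {p : ℕ} [Fact p.Prime] {U : Subgroup X} [Finite U]
    (hU : IsPGroup p U) {x y : X} (hx : x ∈ U) (hy : y ∈ U) : x * y * x⁻¹ * y⁻¹ ∈ frat U := by
  rw [mem_frat_iff]
  refine ⟨U.mul_mem (U.mul_mem (U.mul_mem hx hy) (U.inv_mem hx)) (U.inv_mem hy), ?_⟩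
  apply Cfsg.Agent.S3772.mem_frattini_of_forall
  intro M hM
  exact (Cfsg.Agent.S3772.pgroup_coatom hU M hM).2 ⟨x, hx⟩ ⟨y, hy⟩

theorem frat_ne {X : Type*} [Group X] {U : Subgroup X} [Finite U] (hU1 : U ≠ ⊥) : frat U ≠ U := by
  intro h
  have htop : frattini ↥U = ⊤ := by
    rw [eq_top_iff]
    intro z _
    have hz : (z : X) ∈ frat U := by rw [h]; exact z.2
    rw [mem_frat_iff] at hz
    obtain ⟨_, hz2⟩ := hz
    exact hz2
  haveI : Nontrivial U := (Subgroup.nontrivial_iff_ne_bot U).2 hU1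
  rcases eq_top_or_exists_le_coatom (⊥ : Subgroup ↥U) with h1 | ⟨M, hM, -⟩
  · exact bot_ne_top h1
  · have h2 : frattini ↥U ≤ M := frattini_le_coatom hM
    rw [htop] at h2
    exact hM.1 (top_le_iff.1 h2)

def conjEquiv {X : Type*} [Group X] (U : Subgroup X) (a : X)
    (ha : a ∈ Subgroup.normalizer (U : Set X)) : ↥U ≃* ↥U where
  toFun x := ⟨a * x * a⁻¹, (Subgroup.mem_normalizer_iff.1 ha x).1 x.2⟩
  invFun x := ⟨a⁻¹ * x * a, by
    have h1 := (Subgroup.mem_normalizer_iff.1 ha (a⁻¹ * x * a)).2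
    apply h1
    have h2 : a * (a⁻¹ * (x : X) * a) * a⁻¹ = x := by group
    rw [h2]; exact x.2⟩
  left_inv x := Subtype.ext (by simp [mul_assoc])
  right_inv x := Subtype.ext (by simp [mul_assoc])
  map_mul' x y := Subtype.ext (by simp [mul_assoc])

theorem conj_mem_frat {X : Type*} [Group X] {U : Subgroup X} {a : X}
    (ha : a ∈ Subgroup.normalizer (U : Set X)) {t : X} (ht : t ∈ frat U) :
    a * t * a⁻¹ ∈ frat U := by
  rw [mem_frat_iff] at ht ⊢
  obtain ⟨htU, ht2⟩ := ht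
  refine ⟨(Subgroup.mem_normalizer_iff.1 ha t).1 htU, ?_⟩
  have hchar : (frattini ↥U).Characteristic := inferInstance
  have h1 := Subgroup.characteristic_iff_map_eq.1 hchar (conjEquiv U a ha)
  have h2 : (conjEquiv U a ha) ⟨t, htU⟩ ∈ (frattini ↥U).map (conjEquiv U a ha).toMonoidHom :=
    Subgroup.mem_map_of_mem _ ht2
  rw [h1] at h2
  exact h2

theorem frat_conj_mem {X : Type*} [Group X] {U : Subgroup X} {x t : X} (hx : x ∈ U)
    (ht : t ∈ frat U) : x * t * x⁻¹ ∈ frat U :=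
  conj_mem_frat (Subgroup.le_normalizer hx) ht

theorem centralizes_of_omega {X : Type*} [Group X] [Finite X] {p : ℕ} [Fact p.Prime] (a : X)
    (ha : (orderOf a).Coprime p) :
    ∀ (k : ℕ) (P : Subgroup X), Nat.card P = k → IsPGroup p P →
      a ∈ Subgroup.normalizer (P : Set X) →
      (∀ x ∈ P, x ^ expo p = 1 → a * x = x * a) → ∀ x ∈ P, a * x = x * a := by
  intro k
  induction k using Nat.strong_induction_on with
  | _ k ih =>
    intro P hk hP haP hyp
    by_cases hP1 : P = ⊥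
    · intro x hx
      rw [hP1, Subgroup.mem_bot] at hx
      rw [hx, mul_one, one_mul]
    obtain ⟨T, hT⟩ : ∃ T, T = frat P := ⟨_, rfl⟩
    have hTP : T ≤ P := by rw [hT]; exact frat_le P
    have hTne : T ≠ P := by rw [hT]; exact frat_ne hP1
    have hTcard : Nat.card T < k := by
      rw [← hk]; exact Cfsg.Agent.Lib.Helper9.card_lt_of_le_of_ne hTP hTne
    have haT : a ∈ Subgroup.normalizer (T : Set X) := by
      apply Cfsg.Agent.Lib.Helper10.Coprime.mem_normalizer_of_conj_mem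
      intro t ht
      rw [hT] at ht ⊢
      exact conj_mem_frat haP ht
    have hcT : ∀ t ∈ T, a * t = t * a :=
      ih _ hTcard T rfl (hP.to_le hTP) haT (fun x hx => hyp x (hTP hx))
    have hconj : ∀ x ∈ P, a * x * a⁻¹ ∈ P := fun x hx => (Subgroup.mem_normalizer_iff.1 haP x).1 hx
    have hTn : ∀ x ∈ P, ∀ t ∈ T, x * t * x⁻¹ ∈ T := by
      intro x hx t ht
      rw [hT] at ht ⊢
      exact frat_conj_mem hx ht
    apply Cfsg.Agent.Lib.Helper9.commute_of_commute_commutator hP ha haP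
    intro x hx
    have hw : a * x⁻¹ * a⁻¹ ∈ P := hconj _ (P.inv_mem hx)
    have hkeq : ⁅x, a⁆ = x * (a * x⁻¹ * a⁻¹) := by
      rw [commutatorElement_def]; group
    have hkP : ⁅x, a⁆ ∈ P := by rw [hkeq]; exact P.mul_mem hx hw
    by_cases hC : ∀ y ∈ P, ∀ t ∈ T, y * t = t * y
    · have hkn : ⁅x, a⁆ ^ expo p = 1 := by
        rw [hkeq]
        have hc' : (a * x⁻¹ * a⁻¹) * x * (a * x⁻¹ * a⁻¹)⁻¹ * x⁻¹ ∈ T := by
          rw [hT]; exact comm_mem_frat hP hw hx
        have hwp : (a * x⁻¹ * a⁻¹) ^ p ∈ T := by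
          rw [hT]; exact pow_mem_frat hP hw
        have e1 : Commute ((a * x⁻¹ * a⁻¹) * x * (a * x⁻¹ * a⁻¹)⁻¹ * x⁻¹) x := (hC x hx _ hc').symm
        have e2 : Commute ((a * x⁻¹ * a⁻¹) * x * (a * x⁻¹ * a⁻¹)⁻¹ * x⁻¹) (a * x⁻¹ * a⁻¹) :=
          (hC _ hw _ hc').symm
        have e3 : Commute ((a * x⁻¹ * a⁻¹) ^ p) x := (hC x hx _ hwp).symm
        rw [mul_pow_expo x (a * x⁻¹ * a⁻¹) e1 e2 e3, conj_pow, inv_pow]
        have hxn : x ^ expo p ∈ T := by
          obtain ⟨j, hj⟩ := expo_eq_pow p x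
          rw [hj, hT]
          exact pow_mem_frat hP (P.pow_mem hx j)
        have e4 : a * (x ^ expo p)⁻¹ * a⁻¹ = (x ^ expo p)⁻¹ := by
          rw [hcT _ (T.inv_mem hxn)]; group
        rw [e4, mul_inv_cancel]
      exact hyp _ hkP hkn
    · push_neg at hC
      obtain ⟨C, hCdef⟩ : ∃ C, C = P ⊓ Subgroup.centralizer (T : Set X) := ⟨_, rfl⟩
      have hCP : C ≤ P := by rw [hCdef]; exact inf_le_left
      have hCne : C ≠ P := by
        intro h
        obtain ⟨y, hy, t, ht, hne⟩ := hC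
        apply hne
        have hyC : y ∈ C := by rw [h]; exact hy
        rw [hCdef] at hyC
        exact ((Subgroup.mem_centralizer_iff.1 (Subgroup.mem_inf.1 hyC).2) t ht).symm
      have hCcard : Nat.card C < k := by
        rw [← hk]; exact Cfsg.Agent.Lib.Helper9.card_lt_of_le_of_ne hCP hCne
      have haC : a ∈ Subgroup.normalizer (C : Set X) := by
        apply Cfsg.Agent.Lib.Helper10.Coprime.mem_normalizer_of_conj_mem
        intro c hc
        rw [hCdef] at hc ⊢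
        obtain ⟨hcP, hcc⟩ := Subgroup.mem_inf.1 hc
        refine Subgroup.mem_inf.2 ⟨hconj c hcP, ?_⟩
        rw [Subgroup.mem_centralizer_iff]
        intro t ht
        have h1 : t * c = c * t := (Subgroup.mem_centralizer_iff.1 hcc) t ht
        have h2 : a * t = t * a := hcT t ht
        calc t * (a * c * a⁻¹) = (t * a) * c * a⁻¹ := by group
          _ = (a * t) * c * a⁻¹ := by rw [h2]
          _ = a * (t * c) * a⁻¹ := by group
          _ = a * (c * t) * a⁻¹ := by rw [h1]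
          _ = a * c * (t * a⁻¹) := by group
          _ = a * c * (a⁻¹ * (a * t) * a⁻¹) := by group
          _ = a * c * (a⁻¹ * (t * a) * a⁻¹) := by rw [h2]
          _ = a * c * a⁻¹ * t := by group
      have hcC := ih _ hCcard C rfl (hP.to_le hCP) haC (fun x hx => hyp x (hCP hx))
      apply hcC
      rw [hCdef]
      refine Subgroup.mem_inf.2 ⟨hkP, ?_⟩
      rw [Subgroup.mem_centralizer_iff]
      intro t ht
      have e1 : a * t = t * a := hcT t ht
      have e2 : a * (x⁻¹ * t * x) = (x⁻¹ * t * x) * a := by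
        have h3 := hTn x⁻¹ (P.inv_mem hx) t ht
        rw [inv_inv] at h3
        exact hcT _ h3
      rw [hkeq]
      calc t * (x * (a * x⁻¹ * a⁻¹)) = x * ((x⁻¹ * t * x) * a) * x⁻¹ * a⁻¹ := by group
        _ = x * (a * (x⁻¹ * t * x)) * x⁻¹ * a⁻¹ := by rw [e2]
        _ = x * a * x⁻¹ * (a⁻¹ * (a * t) * a⁻¹) := by group
        _ = x * a * x⁻¹ * (a⁻¹ * (t * a) * a⁻¹) := by rw [e1]
        _ = x * (a * x⁻¹ * a⁻¹) * t := by group

end Cfsg.Agent.Lib.Helper20.Omega
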